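import Groth.Agent.FrobLCI.GrInt.Gen
import Groth.Agent.Smt.GradedDim

/-!
The dimension of a graded module is the degree of its Hilbert–Samuel polynomial.
-/

set_option autoImplicit false
set_option linter.unusedSectionVars false
set_option backward.isDefEq.respectTransparency false

universe u v

open DirectSum Filter Polynomial
open Groth.Ega41Dim (hs IsHSPoly)

namespace Groth.GrInt

/-- Length does not change along an extension of scalars acting through scalars of the base. -/
theorem length_eq_of_forall {R S : Type u} [CommRing R] [CommRing S] [Algebra R S] {Z : Type u}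
    [AddCommGroup Z] [Module R Z] [Module S Z] [IsScalarTower R S Z]
    (h : ∀ (c : S) (z : Z), ∃ a : R, c • z = a • z) : Module.length R Z = Module.length S Z := by
  apply WithBot.coe_injective
  rw [Module.coe_length, Module.coe_length]
  exact Order.krullDim_eq_of_orderIso
    { toFun := fun p =>
        { carrier := p
          zero_mem' := p.zero_mem
          add_mem' := p.add_mem
          smul_mem' := fun c z hz => by
            obtain ⟨a, ha⟩ := h c z
            rw [ha]
            exact p.smul_mem a hz }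
      invFun := fun q => q.restrictScalars R
      left_inv := fun p => rfl
      right_inv := fun q => rfl
      map_rel_iff' := Iff.rfl }

variable {A : Type u} [CommRing A] {σ : Type*} [SetLike σ A] [AddSubgroupClass σ A]
  {𝒜 : ℕ → σ} [GradedRing 𝒜] [IsLocalRing (𝒜 0)]

theorem isPrime_maxGr : (maxGr 𝒜).IsPrime := by
  unfold maxGr; infer_instance

theorem irr_le_maxGr : irr 𝒜 ≤ maxGr 𝒜 := fun a ha => by
  rw [mem_maxGr_iff, mem_irr_iff.1 ha]
  exact not_isUnit_zero

/-- elements outside the maximal ideal are invertible modulo powers of the irrelevant ideal -/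
theorem exists_inv {s : A} (hs : s ∉ maxGr 𝒜) (n : ℕ) : ∃ t : A, 1 - s * t ∈ irr 𝒜 ^ n := by
  rw [mem_maxGr_iff, not_not] at hs
  obtain ⟨u, hu⟩ := hs.exists_right_inv
  let t₀ : A := algebraMap (𝒜 0) A u
  have hx : 1 - s * t₀ ∈ irr 𝒜 := by
    rw [mem_irr_iff, map_sub, map_one, map_mul]
    have : GradedRing.projZeroRingHom' 𝒜 t₀ = u := GradedRing.projZeroRingHom'_apply_coe 𝒜 u
    rw [this, hu, sub_self]
  refine ⟨t₀ * ∑ i ∈ Finset.range n, (1 - s * t₀) ^ i, ?_⟩
  rw [← mul_assoc]
  have h := mul_neg_geom_sum (1 - s * t₀) n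
  rw [sub_sub_cancel] at h
  rw [h, sub_sub_cancel]
  exact Ideal.pow_mem_pow hx n

theorem isHomogeneous_annihilator {X : Type u} [AddCommGroup X] [Module A X] (G : GMod 𝒜 X) :
    (Module.annihilator A X).IsHomogeneous 𝒜 := by
  intro i a ha
  rw [Module.mem_annihilator] at ha ⊢
  intro x
  refine G.ext_cp _ fun g => ?_
  rw [G.cp_smul _ _ _ (SetLike.coe_mem _)]
  split_ifs with h
  · have := congrArg (G.cp g) (ha (G.cp (g - i) x))
    rwa [G.cp_smul_homog (G.cp_eq_self_of_cp x), if_pos (Nat.sub_le _ _), map_zero,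
      show g - (g - i) = i by omega] at this
  · rfl

theorem le_maxGr_of_isHomogeneous {I : Ideal A} (hI : I.IsHomogeneous 𝒜) (hne : I ≠ ⊤) :
    I ≤ maxGr 𝒜 := by
  intro a ha
  rw [mem_maxGr_iff]
  intro hu
  exact hne (Ideal.eq_top_of_isUnit_mem _ (hI 0 ha)
    (show IsUnit ((GradedRing.projZeroRingHom' 𝒜 a : 𝒜 0) : A) from hu.map (algebraMap (𝒜 0) A)))

section main

variable [IsNoetherianRing A] [IsArtinianRing (𝒜 0)]

/-- full height of the vertex in a quotient by a homogeneous prime -/
theorem length_le_height (hgen : irr 𝒜 = Ideal.span (𝒜 1 : Set A)) {p : Ideal A} [p.IsPrime]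
    (hp : p ≤ maxGr 𝒜) :
    ∃ hm : ((maxGr 𝒜).map (Ideal.Quotient.mk p)).IsPrime,
      (Order.height (⟨_, hm⟩ : PrimeSpectrum (A ⧸ p)) : WithBot ℕ∞) = ringKrullDim (A ⧸ p) := by
  haveI := finiteType_gradeZero hgen
  let f : 𝒜 0 →+* A ⧸ p := (Ideal.Quotient.mk p).comp (algebraMap (𝒜 0) A)
  haveI : (RingHom.ker f).IsPrime := RingHom.ker_isPrime f
  have hker : RingHom.ker f = IsLocalRing.maximalIdeal (𝒜 0) :=
    IsLocalRing.eq_maximalIdeal (IsArtinianRing.isMaximal_of_isPrime _)
  let k := 𝒜 0 ⧸ IsLocalRing.maximalIdeal (𝒜 0)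
  letI : Field k := Ideal.Quotient.field _
  letI : Algebra k (A ⧸ p) :=
    (Ideal.Quotient.lift (IsLocalRing.maximalIdeal (𝒜 0)) f fun a ha => hker.ge ha).toAlgebra
  haveI : IsScalarTower (𝒜 0) k (A ⧸ p) := by
    refine ⟨fun a c x => ?_⟩
    obtain ⟨c, rfl⟩ := Ideal.Quotient.mk_surjective c
    obtain ⟨x, rfl⟩ := Ideal.Quotient.mk_surjective x
    show f (a * c) * Ideal.Quotient.mk p x = f a * (f c * Ideal.Quotient.mk p x)
    rw [map_mul, mul_assoc]
  haveI : Algebra.FiniteType (𝒜 0) (A ⧸ p) :=
    Algebra.FiniteType.of_surjective (Ideal.Quotient.mkₐ (𝒜 0) p) Ideal.Quotient.mk_surjective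
  haveI : Algebra.FiniteType k (A ⧸ p) := Algebra.FiniteType.of_restrictScalars_finiteType (𝒜 0) k _
  haveI hmax : (maxGr 𝒜).IsMaximal := by
    unfold maxGr
    exact Ideal.comap_isMaximal_of_surjective _ (GradedRing.projZeroRingHom'_surjective 𝒜)
  haveI hm : ((maxGr 𝒜).map (Ideal.Quotient.mk p)).IsMaximal :=
    Ideal.IsMaximal.map_of_surjective_of_ker_le Ideal.Quotient.mk_surjective (by rwa [Ideal.mk_ker])
  refine ⟨hm.isPrime, ?_⟩
  rw [← PrimeSpectrum.height_eq_orderHeight]
  exact Groth.Smt.height_eq_ringKrullDim_of_isMaximal k (A ⧸ p) _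

variable (𝒜) in
/-- localisation at the vertex -/
abbrev Am : Type u :=
  haveI := isPrime_maxGr (𝒜 := 𝒜)
  Localization.AtPrime (maxGr 𝒜)

theorem natDegree_eq_supportDim (hgen : irr 𝒜 = Ideal.span (𝒜 1 : Set A)) {X : Type u}
    [AddCommGroup X] [Module A X] [Module.Finite A X] [Nontrivial X] (G : GMod 𝒜 X) {Q : ℚ[X]}
    (hQ : IsHSPoly (irr 𝒜) X Q) : (Q.natDegree : WithBot ℕ∞) = Module.supportDim A X := by
  haveI := isArtinianRing_quotient_irr (𝒜 := 𝒜)
  haveI := isPrime_maxGr (𝒜 := 𝒜)
  let R := Localization.AtPrime (maxGr 𝒜)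
  let S := (maxGr 𝒜).primeCompl
  let L := LocalizedModule S X
  let f : X →ₗ[A] L := LocalizedModule.mkLinearMap S X
  let r' := (irr 𝒜).map (algebraMap A R)
  haveI : Module.Finite R L := Module.Finite.of_isLocalizedModule S f
  haveI : IsNoetherianRing R := IsLocalization.isNoetherianRing S R inferInstance
  haveI : IsArtinianRing (R ⧸ r') := by
    refine Function.Surjective.isArtinianRing (R := A ⧸ irr 𝒜)
      (f := Ideal.quotientMap r' (algebraMap A R) Ideal.le_comap_map) fun y => ?_
    obtain ⟨c, rfl⟩ := Ideal.Quotient.mk_surjective y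
    obtain ⟨a, s, rfl⟩ := IsLocalization.exists_mk'_eq S c
    obtain ⟨t, ht⟩ := exists_inv (𝒜 := 𝒜) s.2 1
    rw [pow_one] at ht
    refine ⟨Ideal.Quotient.mk _ (a * t), ?_⟩
    rw [Ideal.quotientMap_mk, Ideal.Quotient.eq]
    have : algebraMap A R (a * t) - IsLocalization.mk' R a s =
        -(IsLocalization.mk' R a s * algebraMap A R (1 - (s : A) * t)) := by
      rw [map_sub, map_one, map_mul, map_mul, mul_sub, mul_one, ← mul_assoc, IsLocalization.mk'_spec]
      ring
    rw [this]
    exact neg_mem (Ideal.mul_mem_left _ _ (Ideal.mem_map_of_mem _ ht))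
  have hmax : ∀ q : Ideal R, q.IsPrime → r' ≤ q → q.IsMaximal := by
    intro q hq hrq
    haveI : (q.map (Ideal.Quotient.mk r')).IsPrime :=
      Ideal.map_isPrime_of_surjective Ideal.Quotient.mk_surjective (by rwa [Ideal.mk_ker])
    haveI := IsArtinianRing.isMaximal_of_isPrime (q.map (Ideal.Quotient.mk r'))
    have := Ideal.comap_isMaximal_of_surjective (Ideal.Quotient.mk r') Ideal.Quotient.mk_surjective
      (K := q.map (Ideal.Quotient.mk r'))
    rwa [Ideal.comap_map_mk hrq] at this
  have hr : r' ≤ Ideal.jacobson ⊥ := by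
    rw [IsLocalRing.jacobson_eq_maximalIdeal ⊥ bot_ne_top, ← IsLocalization.AtPrime.map_eq_maximalIdeal (maxGr 𝒜) R]
    exact Ideal.map_mono irr_le_maxGr
  -- the Hilbert–Samuel functions agree
  have hhs : ∀ n, hs r' L n = hs (irr 𝒜) X n := fun n => by
    refine congrArg ENat.toNat ?_
    set J : Submodule A X := irr 𝒜 ^ n • ⊤ with hJ
    have hloc : J.localized' R S f = r' ^ n • (⊤ : Submodule R L) := by
      rw [hJ, Submodule.localized'_smul, Ideal.localized'_eq_map, Submodule.localized'_top, Ideal.map_pow]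
    have hinv : ∀ (s : S) (y : X ⧸ J), ∃ t : A, (s : A) • t • y = y := fun s y => by
      obtain ⟨t, ht⟩ := exists_inv (𝒜 := 𝒜) s.2 n
      obtain ⟨y, rfl⟩ := Submodule.mkQ_surjective _ y
      refine ⟨t, ?_⟩
      rw [← mul_smul, ← map_smul, Submodule.mkQ_apply, Submodule.mkQ_apply, Submodule.Quotient.eq]
      rw [show ((s : A) * t) • y - y = -((1 - (s : A) * t) • y) by rw [sub_smul, one_smul]; abel]
      exact neg_mem (Submodule.smul_mem_smul ht trivial)
    haveI : IsLocalizedModule S (LinearMap.id : (X ⧸ J) →ₗ[A] X ⧸ J) :=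
      { map_units := fun s => by
          refine (Module.End.isUnit_iff _).2 ⟨fun x y hxy => ?_, fun y => ?_⟩
          · obtain ⟨t, ht⟩ := hinv s (x - y)
            rw [smul_comm] at ht
            have h0 : (s : A) • (x - y) = 0 := by
              rw [smul_sub, sub_eq_zero]
              exact hxy
            rw [h0, smul_zero] at ht
            exact sub_eq_zero.1 ht.symm
          · obtain ⟨t, ht⟩ := hinv s y
            exact ⟨t • y, ht⟩
        surj := fun y => ⟨(y, 1), by simp⟩
        exists_of_eq := fun h => ⟨1, by simpa using h⟩ }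
    let e : (X ⧸ J) ≃ₗ[A] L ⧸ J.localized' R S f :=
      IsLocalizedModule.linearEquiv S (LinearMap.id : (X ⧸ J) →ₗ[A] X ⧸ J)
        (J.toLocalizedQuotient' R S f)
    rw [e.length_eq, length_eq_of_forall (R := A) (S := R) fun c z => ?_]
    · exact (Submodule.quotEquivOfEq _ _ hloc).symm.length_eq
    · obtain ⟨a, s, rfl⟩ := IsLocalization.exists_mk'_eq S c
      obtain ⟨y, rfl⟩ := e.surjective z
      obtain ⟨t, ht⟩ := hinv s y
      refine ⟨a * t, ?_⟩
      conv_lhs => rw [← ht, map_smul, map_smul, ← algebraMap_smul R (s : A), smul_smul,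
        IsLocalization.mk'_spec, algebraMap_smul, ← mul_smul]
  have hQ' : IsHSPoly r' L Q := hQ.mono fun n hn => by rw [hhs]; exact hn
  -- supports
  have hsupp : Module.supportDim R L = Module.supportDim A X := by
    refine le_antisymm ?_ ?_
    · refine Order.krullDim_le_of_strictMono (fun q => ⟨PrimeSpectrum.comap (algebraMap A R) q.1, ?_⟩)
        (fun q q' h => ?_)
      · obtain ⟨z, hz⟩ := Module.mem_support_iff'.1 q.2
        obtain ⟨⟨y, s⟩, rfl⟩ := IsLocalizedModule.mk'_surjective S f z
        refine Module.mem_support_iff'.2 ⟨y, fun c hc h0 => hz (algebraMap A R c) hc ?_⟩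
        rw [Function.uncurry_apply_pair, algebraMap_smul, ← IsLocalizedModule.mk'_smul, h0,
          IsLocalizedModule.mk'_zero]
      · exact lt_of_le_of_ne (Ideal.comap_mono h.le) fun he => h.ne (Subtype.ext (PrimeSpectrum.ext
          ((IsLocalization.orderEmbedding S R).injective (congrArg PrimeSpectrum.asIdeal (congrArg Subtype.val he)))))
    · refine iSup_le fun l => ?_
      have hann : Module.annihilator A X ≤ l.head.1.asIdeal :=
        Groth.Ega41Dim.annihilator_le_of_mem_support l.head.2
      obtain ⟨p, hp, hpl⟩ := Ideal.exists_minimalPrimes_le hann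
      haveI hpp : p.IsPrime := hp.isPrime
      have hI := isHomogeneous_annihilator G
      have hC : (p.homogeneousCore 𝒜).toIdeal = p := by
        refine le_antisymm (Ideal.toIdeal_homogeneousCore_le 𝒜 p) (hp.2 ⟨hpp.homogeneousCore, ?_⟩
          (Ideal.toIdeal_homogeneousCore_le 𝒜 p))
        have h := Ideal.homogeneousCore_mono 𝒜 hp.1.2
        calc Module.annihilator A X = ((Module.annihilator A X).homogeneousCore 𝒜).toIdeal :=
              hI.toIdeal_homogeneousCore_eq_self.symm
          _ ≤ _ := h
      have hpm : p ≤ maxGr 𝒜 :=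
        le_maxGr_of_isHomogeneous (hC ▸ (p.homogeneousCore 𝒜).isHomogeneous) hpp.ne_top
      obtain ⟨hm, hht⟩ := length_le_height hgen hpm
      have hle : ∀ i, p ≤ (l i).1.asIdeal := fun i => hpl.trans (l.monotone (Fin.zero_le i))
      let l' : LTSeries (PrimeSpectrum (A ⧸ p)) :=
        { length := l.length
          toFun := fun i => ⟨(l i).1.asIdeal.map (Ideal.Quotient.mk p),
            Ideal.map_isPrime_of_surjective Ideal.Quotient.mk_surjective
              (by rw [Ideal.mk_ker]; exact hle i)⟩
          step := fun i => by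
            show Ideal.map (Ideal.Quotient.mk p) (l i.castSucc).1.asIdeal <
              Ideal.map (Ideal.Quotient.mk p) (l i.succ).1.asIdeal
            refine lt_of_le_of_ne (Ideal.map_mono (l.step i).le) fun he =>
              (l.step i).ne (Subtype.ext (PrimeSpectrum.ext ?_))
            have := congrArg (Ideal.comap (Ideal.Quotient.mk p)) he
            rwa [Ideal.comap_map_mk (hle _), Ideal.comap_map_mk (hle _)] at this }
      have h1 : ((l.length : ℕ) : WithBot ℕ∞) ≤ ringKrullDim (A ⧸ p) := Order.LTSeries.length_le_krullDim l'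
      rw [← hht] at h1
      refine le_trans h1 ?_
      -- chains below the vertex map to chains in the support over the localisation
      obtain ⟨y₀, hy₀⟩ : ∃ y : X, ∀ c ∉ p, c • y ≠ 0 :=
        Module.mem_support_iff'.1 (show (⟨p, hpp⟩ : PrimeSpectrum A) ∈ Module.support A X by
          rw [Module.support_eq_zeroLocus]; exact hp.1.2)
      have hprop : ∀ q : PrimeSpectrum (A ⧸ p), q.asIdeal ≤ (maxGr 𝒜).map (Ideal.Quotient.mk p) →
          Disjoint (S : Set A) (q.asIdeal.comap (Ideal.Quotient.mk p)) := fun q hq => by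
        refine Set.disjoint_left.2 fun c hc hcq => hc ?_
        have : c ∈ ((maxGr 𝒜).map (Ideal.Quotient.mk p)).comap (Ideal.Quotient.mk p) := hq hcq
        rwa [Ideal.comap_map_mk hpm] at this
      let g : ∀ q : PrimeSpectrum (A ⧸ p), q.asIdeal ≤ (maxGr 𝒜).map (Ideal.Quotient.mk p) →
          Module.support R L := fun q hq =>
        ⟨⟨(q.asIdeal.comap (Ideal.Quotient.mk p)).map (algebraMap A R),
          IsLocalization.isPrime_of_isPrime_disjoint S R _ inferInstance (hprop q hq)⟩, by
          refine Module.mem_support_iff'.2 ⟨f y₀, fun c hc h0 => ?_⟩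
          obtain ⟨a, s, rfl⟩ := IsLocalization.exists_mk'_eq S c
          have ha : a ∉ q.asIdeal.comap (Ideal.Quotient.mk p) := fun ha =>
            hc ((IsLocalization.mk'_mem_iff).2 (Ideal.mem_map_of_mem _ ha))
          have h1 : (algebraMap A R a) • f y₀ = 0 := by
            rw [← IsLocalization.mk'_spec R a s, mul_comm, mul_smul, h0, smul_zero]
          rw [algebraMap_smul, ← map_smul] at h1
          obtain ⟨t, ht⟩ := (IsLocalizedModule.eq_zero_iff S f).1 h1
          rw [Submonoid.smul_def, ← mul_smul] at ht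
          refine hy₀ ((t : A) * a) (fun hmem => ?_) ht
          rcases hpp.mem_or_mem hmem with h | h
          · exact t.2 (hpm h)
          · exact ha (show Ideal.Quotient.mk p a ∈ q.asIdeal by
              rw [Ideal.Quotient.eq_zero_iff_mem.2 h]; exact zero_mem _)⟩
      obtain ⟨e, he⟩ : ∃ e : ℕ∞, Module.supportDim R L = (e : WithBot ℕ∞) := by
        haveI : Nonempty (Module.support R L) := ⟨g ⟨_, hm⟩ le_rfl⟩
        exact ⟨_, (WithBot.coe_unbot (Module.supportDim R L) (Order.krullDim_ne_bot_iff.2 inferInstance)).symm⟩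
      rw [he, WithBot.coe_le_coe]
      refine Order.height_le fun s hs => ?_
      rw [← WithBot.coe_le_coe, ← he]
      have hsle : ∀ i, (s i).asIdeal ≤ (maxGr 𝒜).map (Ideal.Quotient.mk p) := fun i => by
        have := s.monotone (Fin.le_last i)
        rw [show s (Fin.last _) = s.last from rfl, hs] at this
        exact this
      let s' : LTSeries (Module.support R L) :=
        { length := s.length
          toFun := fun i => g (s i) (hsle i)
          step := fun i => by
            show Ideal.map (algebraMap A R) ((s i.castSucc).asIdeal.comap (Ideal.Quotient.mk p)) <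
              Ideal.map (algebraMap A R) ((s i.succ).asIdeal.comap (Ideal.Quotient.mk p))
            refine lt_of_le_of_ne (Ideal.map_mono (Ideal.comap_mono (s.step i).le)) fun he' =>
              (s.step i).ne (PrimeSpectrum.ext (Ideal.comap_injective_of_surjective _
                Ideal.Quotient.mk_surjective ?_))
            have := congrArg (Ideal.under A) he'
            rwa [IsLocalization.under_map_of_isPrime_disjoint S R inferInstance (hprop _ (hsle _)),
              IsLocalization.under_map_of_isPrime_disjoint S R inferInstance (hprop _ (hsle _))] at this }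
      exact Order.LTSeries.length_le_krullDim s'
  haveI : Nontrivial L := by
    rw [← Module.supportDim_ne_bot_iff_nontrivial R, hsupp]
    exact Module.supportDim_ne_bot_of_nontrivial A X
  rw [← hsupp]
  exact Groth.Ega41Dim.natDegree_eq_supportDim (r := r') hmax hr hQ'

end main

end Groth.GrInt
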