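import Mathlib

/-!
Polynomials in the shift operator acting on rational polynomials.
-/

set_option autoImplicit false

open Polynomial Filter

namespace Groth.GrInt

/-- `P(X) ↦ P(X - 1)` -/
noncomputable def shift : Module.End ℚ ℚ[X] := taylor (-1 : ℚ)

/-- the operator of `c` -/
noncomputable def op (c : ℤ[X]) : Module.End ℚ ℚ[X] := aeval shift c

theorem shift_pow_apply (e : ℕ) (P : ℚ[X]) : (shift ^ e) P = P.comp (X - C (e : ℚ)) := by
  induction e with
  | zero => simp
  | succ e ih =>
    rw [pow_succ', Module.End.mul_apply, ih, shift, taylor_apply, comp_assoc]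
    congr 1
    simp only [sub_comp, X_comp, C_comp, Nat.cast_succ, map_add, map_neg, map_one]
    ring

theorem eval_op (c : ℤ[X]) (P : ℚ[X]) (x : ℚ) :
    (op c P).eval x = c.sum fun e a => (a : ℚ) * P.eval (x - e) := by
  induction c using Polynomial.induction_on' with
  | add p q hp hq =>
    rw [op, map_add, LinearMap.add_apply, eval_add, ← op, ← op, hp, hq,
      Polynomial.sum_add_index p q _ (fun _ => by simp) (fun _ _ _ => by push_cast; ring)]
  | monomial e a =>
    rw [Polynomial.sum_monomial_index _ _ (by simp), op, aeval_monomial, ← Algebra.smul_def,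
      LinearMap.smul_apply, shift_pow_apply, eval_smul, eval_comp]
    simp

theorem eventually_sum_eq_op {f : ℕ → ℤ} {P : ℚ[X]}
    (h : ∀ᶠ n in atTop, (f n : ℚ) = P.eval (n : ℚ)) (c : ℤ[X]) :
    ∀ᶠ n in atTop, ((c.sum fun e a => a * f (n - e) : ℤ) : ℚ) = (op c P).eval (n : ℚ) := by
  obtain ⟨N, hN⟩ := eventually_atTop.1 h
  refine eventually_atTop.2 ⟨N + c.natDegree, fun n hn => ?_⟩
  rw [eval_op, Polynomial.sum_def, Polynomial.sum_def, Int.cast_sum]
  refine Finset.sum_congr rfl fun e he => ?_
  have := le_natDegree_of_mem_supp e he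
  rw [Int.cast_mul, hN (n - e) (by omega), Nat.cast_sub (by omega)]

theorem natDegree_shift (P : ℚ[X]) : (shift P).natDegree = P.natDegree := natDegree_taylor P _

theorem natDegree_aeval_shift_le (w : ℚ[X]) (P : ℚ[X]) :
    (aeval shift w P).natDegree ≤ P.natDegree := by
  induction w using Polynomial.induction_on' with
  | add p q hp hq =>
    rw [map_add, LinearMap.add_apply]
    exact (natDegree_add_le _ _).trans (max_le hp hq)
  | monomial e a =>
    rw [aeval_monomial, ← Algebra.smul_def, LinearMap.smul_apply]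
    refine (natDegree_smul_le _ _).trans ?_
    induction e with
    | zero => simp
    | succ e ih => rw [pow_succ', Module.End.mul_apply, natDegree_shift]; exact ih

theorem delta_of_natDegree_zero {P : ℚ[X]} (h : P.natDegree = 0) : (shift - 1) P = 0 := by
  rw [eq_C_of_natDegree_eq_zero h, LinearMap.sub_apply, shift, taylor_C, Module.End.one_apply, sub_self]

theorem delta_of_natDegree_succ {P : ℚ[X]} {k : ℕ} (h : P.natDegree = k + 1) :
    (shift - 1) P ≠ 0 ∧ ((shift - 1) P).natDegree = k := by
  have hP : P.leadingCoeff ≠ 0 := leadingCoeff_ne_zero.2 (by rintro rfl; simp at h)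
  have hcoeff : ((shift - 1) P).coeff k = -((k : ℚ) + 1) * P.leadingCoeff := by
    rw [LinearMap.sub_apply, Module.End.one_apply, coeff_sub, shift, taylor_coeff,
      eq_X_add_C_of_natDegree_le_one (p := hasseDeriv k P)
        ((natDegree_hasseDeriv_le P k).trans (by omega))]
    simp only [eval_add, eval_mul, eval_C, eval_X, hasseDeriv_coeff, zero_add, Nat.choose_self,
      Nat.cast_one, one_mul, leadingCoeff, h, add_comm 1 k, Nat.choose_succ_self_right, Nat.cast_add]
    ring
  have hne : ((shift - 1) P).coeff k ≠ 0 := by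
    rw [hcoeff]
    exact mul_ne_zero (neg_ne_zero.2 (by positivity)) hP
  refine ⟨fun h0 => hne (by rw [h0, coeff_zero]), natDegree_eq_of_le_of_coeff_ne_zero ?_ hne⟩
  refine natDegree_le_iff_coeff_eq_zero.2 fun N hN => ?_
  rw [LinearMap.sub_apply, Module.End.one_apply, coeff_sub, shift]
  rcases eq_or_lt_of_le (Nat.succ_le_of_lt hN) with rfl | hlt
  · rw [show k.succ = P.natDegree from h.symm, coeff_taylor_natDegree, leadingCoeff, sub_self]
  · rw [coeff_eq_zero_of_natDegree_lt (p := taylor (-1) P) (by rw [natDegree_taylor]; omega),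
      coeff_eq_zero_of_natDegree_lt (by omega), sub_self]

theorem delta_pow (s : ℕ) : ∀ {P : ℚ[X]}, P ≠ 0 →
    (P.natDegree < s → ((shift - 1) ^ s) P = 0) ∧
    (s ≤ P.natDegree → ((shift - 1) ^ s) P ≠ 0 ∧ (((shift - 1) ^ s) P).natDegree = P.natDegree - s) := by
  induction s with
  | zero => exact fun hP => ⟨fun h => absurd h (Nat.not_lt_zero _), fun _ => by simpa using hP⟩
  | succ s ih =>
    intro P hP
    obtain ⟨h1, h2⟩ := ih hP
    rw [pow_succ', Module.End.mul_apply]
    constructor
    · intro hlt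
      rcases lt_or_ge P.natDegree s with h | h
      · rw [h1 h, map_zero]
      · exact delta_of_natDegree_zero (by rw [(h2 h).2]; omega)
    · intro hle
      obtain ⟨h3, h4⟩ := delta_of_natDegree_succ (k := P.natDegree - (s + 1))
        ((h2 (by omega)).2.trans (by omega))
      exact ⟨h3, h4⟩

theorem natDegree_aeval_shift {u : ℚ[X]} (hu : u.eval 1 ≠ 0) {P : ℚ[X]} (hP : P ≠ 0) :
    aeval shift u P ≠ 0 ∧ (aeval shift u P).natDegree = P.natDegree := by
  obtain ⟨w, hw⟩ : X - C (1 : ℚ) ∣ u - C (u.eval 1) := dvd_iff_isRoot.2 (by simp [IsRoot])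
  have hu' : u = C (u.eval 1) + w * (X - C 1) := by rw [mul_comm w, ← hw]; ring
  have heq : aeval shift u P = u.eval 1 • P + aeval shift w ((shift - 1) P) := by
    conv_lhs => rw [hu']
    rw [map_add, map_mul, map_sub, aeval_X, aeval_C, aeval_C, map_one, LinearMap.add_apply,
      Module.End.mul_apply, Module.algebraMap_end_apply]
  have hsm : (u.eval 1 • P).natDegree = P.natDegree := natDegree_smul _ hu
  rcases Nat.eq_zero_or_pos P.natDegree with h0 | hpos
  · rw [heq, delta_of_natDegree_zero h0, map_zero, add_zero]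
    exact ⟨smul_ne_zero hu hP, hsm⟩
  · obtain ⟨-, hdeg⟩ := delta_of_natDegree_succ (k := P.natDegree - 1) (P := P) (by omega)
    have hlt : (aeval shift w ((shift - 1) P)).natDegree < (u.eval 1 • P).natDegree := by
      rw [hsm]
      exact (natDegree_aeval_shift_le w _).trans_lt (by rw [hdeg]; omega)
    have hd := natDegree_add_eq_left_of_natDegree_lt hlt
    rw [heq]
    refine ⟨fun h0 => ?_, hd.trans hsm⟩
    rw [h0, natDegree_zero, hsm] at hd
    omega

/-- a nonzero polynomial in the shift operator lowers degrees by a fixed amount -/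
theorem exists_order {c : ℤ[X]} (hc : c ≠ 0) :
    ∃ s : ℕ, ∀ P : ℚ[X], P ≠ 0 → (P.natDegree < s → op c P = 0) ∧
      (s ≤ P.natDegree → op c P ≠ 0 ∧ (op c P).natDegree = P.natDegree - s) := by
  set c' := c.map (algebraMap ℤ ℚ) with hc'
  have hc'0 : c' ≠ 0 := (Polynomial.map_ne_zero_iff (algebraMap ℤ ℚ).injective_int).2 hc
  obtain ⟨u, hu, hndvd⟩ := exists_eq_pow_rootMultiplicity_mul_and_not_dvd c' hc'0 1
  set s := c'.rootMultiplicity 1
  have hu1 : u.eval 1 ≠ 0 := fun h => hndvd (dvd_iff_isRoot.2 h)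
  have hop : ∀ P, op c P = aeval shift u (((shift - 1) ^ s) P) := fun P => by
    rw [op, ← aeval_map_algebraMap ℚ shift c, ← hc', hu, mul_comm, map_mul, map_pow, map_sub,
      aeval_X, aeval_C, map_one, Module.End.mul_apply]
  refine ⟨s, fun P hP => ⟨fun h => ?_, fun h => ?_⟩⟩
  · rw [hop, (delta_pow s hP).1 h, map_zero]
  · obtain ⟨h1, h2⟩ := (delta_pow s hP).2 h
    obtain ⟨h3, h4⟩ := natDegree_aeval_shift hu1 h1
    rw [hop]
    exact ⟨h3, h4.trans h2⟩

end Groth.GrInt
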