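import Groth.Prelude.Def_IntMult
import Groth.Agent.FrobLCI.GrInt.Dim
import Groth.Agent.FrobLCI.GrInt.Poly
import Groth.Agent.Calg7.Derived.TorLinear
import Groth.Agent.Calg7.Derived.TorFinite
import Groth.Agent.Ega41Dim.SystemParams

/-!
The intersection theorem for graded modules.
-/

set_option autoImplicit false
set_option linter.unusedSectionVars false
set_option backward.isDefEq.respectTransparency false

universe u v

open DirectSum Filter Polynomial CategoryTheory TensorProduct

namespace Groth.GrInt

section TorFiniteLength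

variable {A : Type u} [CommRing A] {M N : Type u} [AddCommGroup M] [Module A M] [AddCommGroup N]
  [Module A N]

theorem annihilator_le_tor_left (i : ℕ) :
    Module.annihilator A M ≤ Module.annihilator A (DRing.Tor A i M N) := fun a ha => by
  rw [Module.mem_annihilator] at ha ⊢
  intro t
  have h0 : a • 𝟙 (ModuleCat.of A M) = (0 : A) • 𝟙 (ModuleCat.of A M) :=
    ModuleCat.hom_ext (LinearMap.ext fun x => (ha x).trans (zero_smul A x).symm)
  have h1 := congrArg (fun f => Groth.Calg7.Tor.mapL i f (ModuleCat.of A N)) h0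
  simp only [Groth.Calg7.Tor.mapL_smul_id] at h1
  exact (congrArg (fun f => f.hom t) h1).trans (zero_smul A t)

theorem annihilator_sup_le_tor (i : ℕ) :
    Module.annihilator A M ⊔ Module.annihilator A N ≤ Module.annihilator A (DRing.Tor A i M N) := by
  refine sup_le (annihilator_le_tor_left i) ?_
  obtain ⟨e⟩ := Groth.HTorLib.tor_symm (A := A) i M N
  exact (annihilator_le_tor_left i).trans e.annihilator_eq.ge

variable [IsNoetherianRing A] [Module.Finite A M] [Module.Finite A N]

theorem isMaximal_of_annihilator_le (hfl : IsFiniteLength A (M ⊗[A] N)) (p : Ideal A) (hp : p.IsPrime)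
    (h : Module.annihilator A M ⊔ Module.annihilator A N ≤ p) : p.IsMaximal := by
  let P : PrimeSpectrum A := ⟨p, hp⟩
  have hM : P ∈ Module.support A M := by
    rw [Module.support_eq_zeroLocus]; exact le_sup_left.trans h
  have hN : P ∈ Module.support A N := by
    rw [Module.support_eq_zeroLocus]; exact le_sup_right.trans h
  rw [Module.mem_support_iff_nontrivial_residueField_tensorProduct] at hM hN
  have hMN : P ∈ Module.support A (M ⊗[A] N) := by
    rw [Module.mem_support_iff_nontrivial_residueField_tensorProduct,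
      (AlgebraTensorModule.distribBaseChange A P.asIdeal.ResidueField M N).nontrivial_congr]
    exact (Module.FaithfullyFlat.nontrivial_tensorProduct_iff_right _ _).2 hN
  rw [Module.support_eq_zeroLocus] at hMN
  obtain ⟨k, g, hg⟩ := Module.Finite.exists_fin (R := A) (M := M ⊗[A] N)
  let φ : A →ₗ[A] (Fin k → M ⊗[A] N) := LinearMap.pi fun j => LinearMap.toSpanSingleton A _ (g j)
  have hker : LinearMap.ker φ ≤ Module.annihilator A (M ⊗[A] N) := fun a ha => by
    rw [Module.mem_annihilator]
    intro x
    have hx : x ∈ Submodule.span A (Set.range g) := by rw [hg]; trivial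
    induction hx using Submodule.span_induction with
    | mem y hy => obtain ⟨j, rfl⟩ := hy; exact congrFun ha j
    | zero => exact smul_zero a
    | add x y _ _ hx hy => rw [smul_add, hx, hy, add_zero]
    | smul c x _ hx => rw [smul_comm, hx, smul_zero]
  haveI := (isFiniteLength_iff_isNoetherian_isArtinian.1 hfl).2
  haveI : IsArtinian A (A ⧸ LinearMap.ker φ) :=
    isArtinian_of_injective (Submodule.liftQ _ φ le_rfl) (LinearMap.ker_eq_bot.1
      (Submodule.ker_liftQ_eq_bot _ _ _ le_rfl))
  haveI : IsArtinianRing (A ⧸ (LinearMap.ker φ : Ideal A)) := isArtinian_of_tower A inferInstance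
  have hle : (LinearMap.ker φ : Ideal A) ≤ p := hker.trans hMN
  haveI : (p.map (Ideal.Quotient.mk (LinearMap.ker φ : Ideal A))).IsPrime :=
    Ideal.map_isPrime_of_surjective Ideal.Quotient.mk_surjective (by rwa [Ideal.mk_ker])
  haveI := IsArtinianRing.isMaximal_of_isPrime (p.map (Ideal.Quotient.mk (LinearMap.ker φ : Ideal A)))
  have := Ideal.comap_isMaximal_of_surjective _ Ideal.Quotient.mk_surjective
    (K := p.map (Ideal.Quotient.mk (LinearMap.ker φ : Ideal A)))
  rwa [Ideal.comap_map_mk hle] at this

/-- `Tor` has finite length when the tensor product does -/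
theorem isFiniteLength_tor (hfl : IsFiniteLength A (M ⊗[A] N)) (i : ℕ) :
    IsFiniteLength A (DRing.Tor A i M N) := by
  let I := Module.annihilator A M ⊔ Module.annihilator A N
  haveI : IsArtinianRing (A ⧸ I) :=
    Groth.Ega41Dim.isArtinianRing_quotient_of_forall_isMaximal I (isMaximal_of_annihilator_le hfl)
  haveI : Module.Finite A (DRing.Tor A i M N) :=
    Groth.Calg7.Tor.finite_T (ModuleCat.of A M) (ModuleCat.of A N) i
  rw [← Module.length_ne_top_iff]
  have h := Groth.Ega41Dim.lenQ_ne_top (A := A) (M := DRing.Tor A i M N) I (U := ⊤) (V := ⊥)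
    (Submodule.smul_le.2 fun a ha x _ =>
      (Submodule.mem_bot A).2 (Module.mem_annihilator.1 (annihilator_sup_le_tor i ha) x))
  rwa [Groth.Ega41Dim.lenQ_top, (Submodule.quotEquivOfEqBot _ rfl).length_eq] at h

end TorFiniteLength

variable {A : Type u} [CommRing A] [IsNoetherianRing A] {σ : Type*} [SetLike σ A]
  [AddSubgroupClass σ A] {𝒜 : ℕ → σ} [GradedRing 𝒜] [IsLocalRing (𝒜 0)] [IsArtinianRing (𝒜 0)]

/-- a polynomial in the shift giving the truncation lengths of `M` and the Euler characteristic -/
theorem exists_shift_poly {M : Type u} [AddCommGroup M] [Module A M] [Module.Finite A M]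
    (GM : GMod 𝒜 M) (hpd : ∃ n : ℕ, HasProjectiveDimensionLT (ModuleCat.of A M) n) :
    ∃ c : ℤ[X], (∀ᶠ n in atTop, (S GM n : ℤ) = act (fun k => (S (ringGMod 𝒜) k : ℤ)) n c) ∧
      ∀ (N : Type u) [AddCommGroup N] [Module A N] [Module.Finite A N] (GN : GMod 𝒜 N),
        IsFiniteLength A (M ⊗[A] N) →
          ∀ᶠ n in atTop, IntMult.chi A M N = act (fun k => (S GN k : ℤ)) n c := by
  haveI := isArtinianRing_quotient_irr (𝒜 := 𝒜)
  obtain ⟨b, d, π, hπ, hcomm, hres⟩ := exists_presentation GM hpd
  obtain ⟨ℓ, c, hc⟩ := exists_euler hres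
  let e : ((Fin b → A) ⧸ LinearMap.ker π) ≃ₗ[A] M := π.quotKerEquivOfSurjective hπ
  refine ⟨c, ?_, fun N _ _ _ GN hfl => ?_⟩
  · have hz : ∀ i, Subsingleton (DRing.Tor A (i + 1) ((Fin b → A) ⧸ LinearMap.ker π) A) :=
      fun i => Groth.HTorLib.subsingleton_tor_of_flat_right _ A i
    obtain ⟨-, hev⟩ := hc A (ringGMod 𝒜) (fun i => by
      haveI := hz i
      exact Module.length_ne_top_iff.1 (by rw [Module.length_eq_zero]; exact ENat.zero_ne_top))
    filter_upwards [hev] with n hn
    have hsum : torSum (A := A) ℓ ((Fin b → A) ⧸ LinearMap.ker π) A = 0 := by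
      refine Finset.sum_eq_zero fun i _ => ?_
      haveI := hz i
      rw [Module.length_eq_zero, ENat.toNat_zero, Nat.cast_zero, mul_zero]
    rw [hsum, add_zero] at hn
    rw [← hn]
    have himg : img (LinearMap.ker π) A = LinearMap.ker π := by
      refine le_antisymm ?_ fun x hx => ⟨(⟨x, hx⟩ : LinearMap.ker π) ⊗ₜ[A] (1 : A), ?_⟩
      · rintro _ ⟨t, rfl⟩
        induction t using TensorProduct.induction_on with
        | zero => rw [map_zero]; exact Submodule.zero_mem _
        | tmul k y =>
          rw [φ_tmul]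
          have : (fun j => (k : Fin b → A) j • y) = y • (k : Fin b → A) :=
            funext fun j => mul_comm _ _
          rw [this]
          exact Submodule.smul_mem _ _ k.2
        | add x y hx hy => rw [map_add]; exact Submodule.add_mem _ hx hy
      · rw [φ_tmul]
        funext j
        exact mul_one _
    rw [S, truncLen, himg]
    congr 2
    rw [← hcomm.comap_F]
    exact (Groth.Ega41Dim.length_quot_eq_lenQ π hπ (GM.F n)).trans (Groth.Ega41Dim.lenQ_top _)
  · have hfin : ∀ i, IsFiniteLength A (DRing.Tor A (i + 1) ((Fin b → A) ⧸ LinearMap.ker π) N) :=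
      fun i => (torCongr N (i + 1) e.symm).isFiniteLength (isFiniteLength_tor hfl (i + 1))
    obtain ⟨hvan, hev⟩ := hc N GN hfin
    -- the tensor product
    let B := img (LinearMap.ker π) N
    let eN : ((Fin b → N) ⧸ B) ≃ₗ[A] M ⊗[A] N := by
      have hex := rTensor_exact N (LinearMap.exact_subtype_ker_map π) hπ
      let g : (Fin b → N) →ₗ[A] M ⊗[A] N := π.rTensor N ∘ₗ (freeTensor N b).symm.toLinearMap
      have hg : Function.Surjective g :=
        (LinearMap.rTensor_surjective N hπ).comp (freeTensor N b).symm.surjective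
      have hk : LinearMap.ker g = B := by
        rw [LinearMap.ker_comp, hex.linearMap_ker_eq, ← Submodule.map_equiv_eq_comap_symm,
          ← LinearMap.range_comp]
        rfl
      exact (Submodule.quotEquivOfEq _ _ hk.symm).trans (g.quotKerEquivOfSurjective hg)
    have hBfin : Groth.Ega41Dim.lenQ (⊤ : Submodule A (Fin b → N)) B ≠ ⊤ := by
      rw [Groth.Ega41Dim.lenQ_top, eN.length_eq, Module.length_ne_top_iff]
      exact hfl
    filter_upwards [hev, (GN.pi d).eventually_inf_F_le (hom_img N GN hres) hBfin] with n hn hT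
    rw [top_inf_eq] at hT
    have hlen : truncLen GN d (LinearMap.ker π) n = (Module.length A (M ⊗[A] N)).toNat := by
      refine congrArg ENat.toNat ?_
      exact ((Submodule.quotEquivOfEq _ _ (sup_eq_left.2 hT)).trans eN).length_eq
    rw [hlen] at hn
    have hchi : IntMult.chi A M N = (Module.length A (M ⊗[A] N)).toNat -
        torSum (A := A) ℓ ((Fin b → A) ⧸ LinearMap.ker π) N := by
      rw [IntMult.chi, finsum_eq_sum_of_support_subset _ (s := Finset.range (ℓ + 1)) ?_]
      · rw [Finset.sum_range_succ', pow_zero, one_mul, torSum, sub_eq_add_neg, add_comm,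
          ← Finset.sum_neg_distrib]
        obtain ⟨e₀⟩ := Groth.HTorLib.tor_zero_equiv (A := A) M N
        rw [e₀.length_eq]
        refine congrArg₂ _ rfl (Finset.sum_congr rfl fun i _ => ?_)
        rw [(torCongr N (i + 1) e).length_eq, pow_succ]
        ring
      · intro i hi
        rw [Finset.coe_range, Set.mem_Iio]
        by_contra hlt
        refine hi ?_
        obtain ⟨k, rfl⟩ : ∃ k, i = k + 1 := ⟨i - 1, by omega⟩
        haveI := hvan k (by omega)
        haveI := (torCongr N (k + 1) e).symm.injective.subsingleton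
        simp [Module.length_eq_zero]
    rw [hchi, hn, add_sub_cancel_right]

theorem chi_eq_zero_of_annihilator {M N : Type u} [AddCommGroup M] [Module A M] [AddCommGroup N]
    [Module A N] (h : (1 : A) ∈ Module.annihilator A M ⊔ Module.annihilator A N) :
    IntMult.chi A M N = 0 := by
  refine finsum_eq_zero_of_forall_eq_zero fun i => ?_
  haveI : Subsingleton (DRing.Tor A i M N) := ⟨fun x y => by
    have := Module.mem_annihilator.1 (annihilator_sup_le_tor i h) (x - y)
    rwa [one_smul, sub_eq_zero] at this⟩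
  simp [Module.length_eq_zero]

/-- the theorem -/
theorem supportDim_add_le_and_chi_eq_zero (hgen : irr 𝒜 = Ideal.span (𝒜 1 : Set A))
    {M : Type u} [AddCommGroup M] [Module A M] [Module.Finite A M] (GM : GMod 𝒜 M)
    {N : Type u} [AddCommGroup N] [Module A N] [Module.Finite A N] (GN : GMod 𝒜 N)
    (hfl : IsFiniteLength A (M ⊗[A] N))
    (hpd : ∃ n : ℕ, HasProjectiveDimensionLT (ModuleCat.of A M) n) :
    Module.supportDim A M + Module.supportDim A N ≤ ringKrullDim A ∧
      (Module.supportDim A M + Module.supportDim A N < ringKrullDim A → IntMult.chi A M N = 0) := by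
  haveI := isArtinianRing_quotient_irr (𝒜 := 𝒜)
  by_cases hM : Nontrivial M
  swap
  · haveI : Subsingleton M := not_nontrivial_iff_subsingleton.1 hM
    refine ⟨by rw [Module.supportDim_eq_bot_of_subsingleton A M, WithBot.bot_add]; exact bot_le,
      fun _ => chi_eq_zero_of_annihilator (Submodule.mem_sup_left (Module.mem_annihilator.2 fun x => Subsingleton.elim _ _))⟩
  by_cases hN : Nontrivial N
  swap
  · haveI : Subsingleton N := not_nontrivial_iff_subsingleton.1 hN
    refine ⟨by rw [Module.supportDim_eq_bot_of_subsingleton A N, WithBot.add_bot]; exact bot_le,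
      fun _ => chi_eq_zero_of_annihilator (Submodule.mem_sup_right (Module.mem_annihilator.2 fun x => Subsingleton.elim _ _))⟩
  haveI : Nontrivial A := Module.nontrivial A M
  obtain ⟨c, hcM, hcN⟩ := exists_shift_poly GM hpd
  obtain ⟨PA, QA, hPA, hQA, hdA⟩ := (ringGMod 𝒜).exists_poly hgen
  obtain ⟨PM, QM, hPM, hQM, hdM⟩ := GM.exists_poly hgen
  obtain ⟨PN, QN, hPN, hQN, hdN⟩ := GN.exists_poly hgen
  have dA := natDegree_eq_supportDim hgen (ringGMod 𝒜) hQA
  have dM := natDegree_eq_supportDim hgen GM hQM
  have dN := natDegree_eq_supportDim hgen GN hQN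
  rw [Module.supportDim_self_eq_ringKrullDim, ← hdA] at dA
  rw [← hdM] at dM
  rw [← hdN] at dN
  -- polynomials agreeing eventually are equal
  have huniq : ∀ {P Q : ℚ[X]}, (∀ᶠ n : ℕ in atTop, P.eval (n : ℚ) = Q.eval (n : ℚ)) → P = Q := by
    intro P Q h
    obtain ⟨N₀, hN₀⟩ := eventually_atTop.1 h
    refine Polynomial.eq_of_infinite_eval_eq _ _ (Set.Infinite.mono ?_
      ((Set.Ici_infinite N₀).image (Nat.cast_injective (R := ℚ)).injOn))
    rintro _ ⟨n, hn, rfl⟩
    exact hN₀ n hn
  have hne : ∀ {X : Type u} [AddCommGroup X] [Module A X] [Module.Finite A X] [Nontrivial X]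
      (G : GMod 𝒜 X) {P : ℚ[X]}, (∀ᶠ n in atTop, (S G n : ℚ) = P.eval (n : ℚ)) → P ≠ 0 := by
    intro X _ _ _ _ G P hP h0
    obtain ⟨n, h1, h2⟩ := (hP.and G.exists_S_pos).exists
    rw [h0, eval_zero, Nat.cast_eq_zero] at h1
    omega
  have hopM : op c PA = PM := huniq (by
    filter_upwards [hcM, hPM, eventually_sum_eq_op (f := fun k => (S (ringGMod 𝒜) k : ℤ))
      (by simpa using hPA) c] with n h1 h2 h3
    rw [← h2, ← h3]
    exact_mod_cast congrArg (fun z : ℤ => (z : ℚ)) h1.symm)
  have hopN : op c PN = C (IntMult.chi A M N : ℚ) := huniq (by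
    filter_upwards [hcN N GN hfl, eventually_sum_eq_op (f := fun k => (S GN k : ℤ))
      (by simpa using hPN) c] with n h1 h3
    rw [← h3, eval_C]
    exact_mod_cast congrArg (fun z : ℤ => (z : ℚ)) h1.symm)
  have hc0 : c ≠ 0 := by
    rintro rfl
    exact hne GM hPM (by rw [← hopM, op, map_zero, LinearMap.zero_apply])
  obtain ⟨s, hs⟩ := exists_order hc0
  obtain ⟨hA1, hA2⟩ := hs PA (hne (ringGMod 𝒜) hPA)
  obtain ⟨hN1, hN2⟩ := hs PN (hne GN hPN)
  have hsA : s ≤ PA.natDegree := by
    by_contra hlt
    exact hne GM hPM (hopM ▸ hA1 (not_le.1 hlt))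
  have hMs : PM.natDegree = PA.natDegree - s := hopM ▸ (hA2 hsA).2
  have hNs : PN.natDegree ≤ s := by
    by_contra hlt
    have := (hN2 (not_le.1 hlt).le).2
    rw [hopN, natDegree_C] at this
    omega
  rw [← dA, ← dM, ← dN]
  refine ⟨by exact_mod_cast (show PM.natDegree + PN.natDegree ≤ PA.natDegree by omega), fun hlt => ?_⟩
  have hlt' : PM.natDegree + PN.natDegree < PA.natDegree := by exact_mod_cast hlt
  have := hopN ▸ hN1 (by omega)
  simpa using this

end Groth.GrInt
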