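import Groth.Agent.FrobLCI.GrInt.Res
import Groth.Agent.HTopHyper.HTor.Balance
import Groth.Agent.Ega41Dim.HilbertSamuel

/-!
Truncated Euler characteristics of finite resolutions.
-/

set_option autoImplicit false
set_option linter.unusedSectionVars false
set_option backward.isDefEq.respectTransparency false

universe u v

open DirectSum CategoryTheory TensorProduct Filter Polynomial
open Groth.Ega41Dim (lenQ lenQ_map lenQ_top lenQ_add lenQ_eq_zero hs length_quot_ne_top)

namespace Groth.GrInt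

variable {A : Type u} [CommRing A] {σ : Type*} [SetLike σ A] [AddSubgroupClass σ A]
  {𝒜 : ℕ → σ} [GradedRing 𝒜]

theorem lenQ_bot {X : Type u} [AddCommGroup X] [Module A X] (U : Submodule A X) :
    lenQ U ⊥ = Module.length A U :=
  (Submodule.quotEquivOfEqBot _ (Submodule.comap_bot _ |>.trans U.ker_subtype)).length_eq

theorem lenQ_sup_sup {X : Type u} [AddCommGroup X] [Module A X] {Z B T : Submodule A X}
    (hBZ : B ≤ Z) (hT : Z ⊓ T ≤ B) : lenQ (Z ⊔ T) (B ⊔ T) = lenQ Z B := by
  have h := lenQ_map LinearMap.id Z (B ⊔ T)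
  rw [Submodule.comap_id, Submodule.map_id, inf_comm, sup_inf_assoc_of_le T hBZ, inf_comm T Z,
    sup_eq_left.2 hT, ← sup_assoc, sup_eq_left.2 hBZ] at h
  exact h.symm

/-- `S G n` is the length of the truncation at `n`. -/
noncomputable def S {X : Type u} [AddCommGroup X] [Module A X] (G : GMod 𝒜 X) (n : ℕ) : ℕ :=
  (Module.length A (X ⧸ G.F n)).toNat

/-- the action of a polynomial on functions by shifts -/
noncomputable def act (f : ℕ → ℤ) (n : ℕ) : ℤ[X] →+ ℤ where
  toFun c := c.sum fun e a => a * f (n - e)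
  map_zero' := Polynomial.sum_zero_index _
  map_add' p q := Polynomial.sum_add_index p q _ (fun _ => zero_mul _) fun _ _ _ => add_mul _ _ _

theorem act_X_pow (f : ℕ → ℤ) (n e : ℕ) : act f n (X ^ e) = f (n - e) := by
  show (X ^ e : ℤ[X]).sum (fun e a => a * f (n - e)) = _
  rw [Polynomial.X_pow_eq_monomial, Polynomial.sum_monomial_index] <;> simp

namespace GMod

variable {X : Type u} [AddCommGroup X] [Module A X] (G : GMod 𝒜 X)

theorem smul_F_le (n : ℕ) : (HomogeneousIdeal.irrelevant 𝒜).toIdeal • G.F n ≤ G.F (n + 1) := by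
  rw [Submodule.smul_le]
  intro a ha x hx g hg
  rw [G.cp_smul_expand]
  refine Finset.sum_eq_zero fun e he' => ?_
  have := Finset.mem_range.1 he'
  rcases Nat.eq_zero_or_pos e with rfl | he
  · have h0 : (decompose 𝒜 a 0 : A) = 0 := by
      simpa [GradedRing.proj_apply] using (HomogeneousIdeal.mem_irrelevant_iff 𝒜 a).mp ha
    rw [h0, zero_smul]
  · rw [hx (g - e) (by omega), smul_zero]

theorem pow_smul_le_F (n : ℕ) :
    (HomogeneousIdeal.irrelevant 𝒜).toIdeal ^ n • (⊤ : Submodule A X) ≤ G.F n := by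
  induction n with
  | zero => rw [G.F_zero]; exact le_top
  | succ n ih =>
    rw [pow_succ', mul_smul]
    exact (smul_mono_right _ ih).trans (G.smul_F_le n)

variable [IsNoetherianRing A] [IsArtinianRing (A ⧸ (HomogeneousIdeal.irrelevant 𝒜).toIdeal)]
  [Module.Finite A X]

theorem length_quot_F_le (n : ℕ) {U : Submodule A X} (h : G.F n ≤ U) :
    Module.length A (X ⧸ U) ≠ ⊤ := by
  refine ne_top_of_le_ne_top (length_quot_ne_top (HomogeneousIdeal.irrelevant 𝒜).toIdeal X n) ?_
  refine Module.length_le_of_surjective (Submodule.factor ((G.pow_smul_le_F n).trans h)) ?_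
  exact Submodule.factor_surjective _

theorem length_quot_F (n : ℕ) : Module.length A (X ⧸ G.F n) = (S G n : ℕ∞) :=
  (ENat.coe_toNat (G.length_quot_F_le n le_rfl)).symm

theorem length_quot_pi_F {b : ℕ} (d : Fin b → ℕ) (n : ℕ) :
    Module.length A ((Fin b → X) ⧸ (G.pi d).F n) = ((∑ j, S G (n - d j) : ℕ) : ℕ∞) := by
  rw [G.pi_F, (Submodule.quotientPi fun j => G.F (n - d j)).length_eq, Module.length_pi_of_fintype,
    Nat.cast_sum]
  exact Finset.sum_congr rfl fun j _ => G.length_quot_F _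

/-- a graded subquotient of finite length lives in bounded degrees -/
theorem eventually_inf_F_le {Z B : Submodule A X} (hB : G.Hom B) (hfin : lenQ Z B ≠ ⊤) :
    ∀ᶠ n in atTop, Z ⊓ G.F n ≤ B := by
  have hfl : IsFiniteLength A (Z ⧸ B.comap Z.subtype) := Module.length_ne_top_iff.1 hfin
  haveI := (isFiniteLength_iff_isNoetherian_isArtinian.1 hfl).2
  let q := (B.comap Z.subtype).mkQ
  obtain ⟨n₀, hn₀⟩ := IsArtinian.monotone_stabilizes (R := A) (M := Z ⧸ B.comap Z.subtype)
    ⟨fun k => OrderDual.toDual (((G.F k).comap Z.subtype).map q), fun a b hab =>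
      Submodule.map_mono (Submodule.comap_mono (G.F_anti hab))⟩
  refine eventually_atTop.2 ⟨n₀, fun n hn x hx => ?_⟩
  obtain ⟨N₀, hN₀⟩ := G.exists_bound x
  have h1 : q ⟨x, hx.1⟩ ∈ ((G.F n₀).comap Z.subtype).map q :=
    Submodule.mem_map_of_mem (show (⟨x, hx.1⟩ : Z) ∈ (G.F n₀).comap Z.subtype from G.F_anti hn hx.2)
  have he : ((G.F n₀).comap Z.subtype).map q = ((G.F (max n₀ N₀)).comap Z.subtype).map q :=
    hn₀ (max n₀ N₀) (le_max_left _ _)
  rw [he] at h1
  obtain ⟨y, hy, hxy⟩ := h1
  have hb : (x : X) - y ∈ B := by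
    have := (Submodule.Quotient.eq _).1 hxy.symm
    exact this
  refine G.mem_of_cp fun g => ?_
  by_cases hg : g < max n₀ N₀
  · have := hB g _ hb
    have hy' : G.cp g (y : X) = 0 := hy g hg
    rwa [map_sub, hy', sub_zero] at this
  · rw [hN₀ g (le_of_max_le_right (not_lt.1 hg))]
    exact Submodule.zero_mem _

end GMod

section tensor

variable {b : ℕ} (K : Submodule A (Fin b → A)) (N : Type u) [AddCommGroup N] [Module A N]

/-- `F ⊗ N ≅ N^b` -/
noncomputable def freeTensor (b : ℕ) : (Fin b → A) ⊗[A] N ≃ₗ[A] (Fin b → N) :=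
  TensorProduct.comm A _ _ ≪≫ₗ TensorProduct.piScalarRight A A N (Fin b)

theorem freeTensor_tmul {b : ℕ} (a : Fin b → A) (y : N) :
    freeTensor N b (a ⊗ₜ[A] y) = fun j => a j • y := by
  simp [freeTensor]

/-- `K ⊗ N → N^b` -/
noncomputable def φ : K ⊗[A] N →ₗ[A] (Fin b → N) :=
  (freeTensor N b).toLinearMap ∘ₗ K.subtype.rTensor N

/-- the image of `K ⊗ N` -/
noncomputable def img : Submodule A (Fin b → N) := LinearMap.range (φ K N)

theorem φ_tmul (k : K) (y : N) : φ K N (k ⊗ₜ[A] y) = fun j => (k : Fin b → A) j • y := by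
  simp [φ, freeTensor_tmul]

theorem img_bot : img (⊥ : Submodule A (Fin b → A)) N = ⊥ := by
  refine LinearMap.range_eq_bot.2 (TensorProduct.ext' fun k y => ?_)
  rw [φ_tmul, show (k : Fin b → A) = 0 from (Submodule.mem_bot A).1 k.2]
  funext j
  simp

variable {b' : ℕ} (D : Fin b → Fin b' → A)

/-- `N^{b'} → K ⊗ N` -/
noncomputable def cover : (Fin b' → N) →ₗ[A] (LinearMap.range (mv D A)) ⊗[A] N :=
  (mv D A).rangeRestrict.rTensor N ∘ₗ (freeTensor N b').symm.toLinearMap

theorem φ_cover : φ (LinearMap.range (mv D A)) N ∘ₗ cover N D = mv D N := by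
  have key : (φ (LinearMap.range (mv D A)) N ∘ₗ (mv D A).rangeRestrict.rTensor N) =
      mv D N ∘ₗ (freeTensor N b').toLinearMap := by
    refine TensorProduct.ext' fun a y => ?_
    simp only [LinearMap.comp_apply, LinearEquiv.coe_coe, LinearMap.rTensor_tmul, φ_tmul,
      freeTensor_tmul]
    funext j
    show mv D A a j • y = _
    rw [mv_apply, mv_apply, Finset.sum_smul]
    exact Finset.sum_congr rfl fun k _ => by rw [smul_eq_mul, mul_smul]
  refine LinearMap.ext fun x => ?_
  have := LinearMap.congr_fun key ((freeTensor N b').symm x)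
  simpa [cover] using this

theorem cover_surjective : Function.Surjective (cover N D) :=
  (LinearMap.rTensor_surjective N (mv D A).surjective_rangeRestrict).comp
    (freeTensor N b').symm.surjective

theorem ker_cover : LinearMap.ker (cover N D) = img (LinearMap.ker (mv D A)) N := by
  have hex : Function.Exact (LinearMap.ker (mv D A)).subtype (mv D A).rangeRestrict := fun y =>
    ⟨fun h => ⟨⟨y, congrArg Subtype.val h⟩, rfl⟩, by rintro ⟨z, rfl⟩; exact Subtype.ext z.2⟩
  have h := (rTensor_exact N hex (mv D A).surjective_rangeRestrict).linearMap_ker_eq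
  rw [cover, LinearMap.ker_comp, h, ← Submodule.map_equiv_eq_comap_symm, img, φ, LinearMap.range_comp]

theorem range_mv : LinearMap.range (mv D N) = img (LinearMap.range (mv D A)) N := by
  rw [← φ_cover N D, LinearMap.range_comp, LinearMap.range_eq_top.2 (cover_surjective N D),
    Submodule.map_top, img]

theorem hom_img {d : Fin b → ℕ} (G : GMod 𝒜 N) {K : Submodule A (Fin b → A)}
    (h : HasRes 𝒜 b d K) : (G.pi d).Hom (img K N) := by
  obtain ⟨b', d', D, hD, rfl⟩ := h.exists_eq_range
  rw [← range_mv]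
  exact (hD.comm G).hom_range

/-- `Tor` is invariant under isomorphisms of the first variable -/
noncomputable def torCongr (i : ℕ) {M M' : Type u} [AddCommGroup M] [Module A M] [AddCommGroup M']
    [Module A M'] (e : M ≃ₗ[A] M') : DRing.Tor A i M N ≃ₗ[A] DRing.Tor A i M' N :=
  (((CategoryTheory.Tor (ModuleCat.{u} A) i).mapIso e.toModuleIso).app (ModuleCat.of A N)).toLinearEquiv

theorem exists_tor_one_equiv :
    Nonempty (DRing.Tor A 1 ((Fin b → A) ⧸ K) N ≃ₗ[A] LinearMap.ker (φ K N)) := by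
  obtain ⟨e₁⟩ := Groth.HTorLib.tor_symm (A := A) 1 ((Fin b → A) ⧸ K) N
  obtain ⟨e₂⟩ := Groth.HTorLib.tor_one_equiv (H := N) (ι := K.subtype) (π := K.mkQ)
    Subtype.val_injective (Submodule.mkQ_surjective K) (LinearMap.exact_subtype_mkQ K)
  refine ⟨e₁.trans (e₂.trans ((Groth.HTorLib.kerRLEquiv K.subtype).symm.trans
    (LinearEquiv.ofEq _ _ ?_)))⟩
  rw [φ, LinearEquiv.ker_comp]

theorem tor_shift_res (p : ℕ) :
    Nonempty (DRing.Tor A (p + 2) ((Fin b → A) ⧸ LinearMap.range (mv D A)) N ≃ₗ[A]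
      DRing.Tor A (p + 1) ((Fin b' → A) ⧸ LinearMap.ker (mv D A)) N) := by
  obtain ⟨e⟩ := Groth.HTorLib.tor_shift_left (LinearMap.range (mv D A)).injective_subtype
    (Submodule.mkQ_surjective (LinearMap.range (mv D A)))
    (LinearMap.exact_subtype_mkQ (LinearMap.range (mv D A))) N p
  exact ⟨e.trans (torCongr N (p + 1) (mv D A).quotKerEquivRange.symm)⟩

end tensor

section main

variable [IsNoetherianRing A] [IsArtinianRing (A ⧸ (HomogeneousIdeal.irrelevant 𝒜).toIdeal)]

/-- the higher part of the Euler characteristic -/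
noncomputable def torSum (ℓ : ℕ) (Q N : Type u) [AddCommGroup Q] [Module A Q] [AddCommGroup N]
    [Module A N] : ℤ :=
  ∑ i ∈ Finset.range ℓ, (-1 : ℤ) ^ i * ((Module.length A (DRing.Tor A (i + 1) Q N)).toNat : ℤ)

/-- the length of the truncation of `F ⊗ N` modulo the image of `K ⊗ N` -/
noncomputable def truncLen {b : ℕ} {N : Type u} [AddCommGroup N] [Module A N] (G : GMod 𝒜 N)
    (d : Fin b → ℕ) (K : Submodule A (Fin b → A)) (n : ℕ) : ℕ :=
  (Module.length A ((Fin b → N) ⧸ (img K N ⊔ (G.pi d).F n : Submodule A (Fin b → N)))).toNat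

/-- the truncated Euler characteristic of a finite resolution -/
theorem exists_euler {b : ℕ} {d : Fin b → ℕ} {K : Submodule A (Fin b → A)} (h : HasRes 𝒜 b d K) :
    ∃ (ℓ : ℕ) (c : ℤ[X]), ∀ (N : Type u) [AddCommGroup N] [Module A N] [Module.Finite A N]
      (G : GMod 𝒜 N), (∀ i, IsFiniteLength A (DRing.Tor A (i + 1) ((Fin b → A) ⧸ K) N)) →
      (∀ i, ℓ ≤ i → Subsingleton (DRing.Tor A (i + 1) ((Fin b → A) ⧸ K) N)) ∧
      ∀ᶠ n in atTop, (truncLen G d K n : ℤ) =
        act (fun k => (S G k : ℤ)) n c + torSum (A := A) ℓ ((Fin b → A) ⧸ K) N := by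
  induction h with
  | zero b d =>
    refine ⟨0, ∑ j, X ^ d j, fun N _ _ _ G _ => ⟨fun i _ => ?_, Eventually.of_forall fun n => ?_⟩⟩
    · haveI : Module.Flat A ((Fin b → A) ⧸ (⊥ : Submodule A (Fin b → A))) :=
        Module.Flat.of_linearEquiv (Submodule.quotEquivOfEqBot _ rfl)
      exact Groth.HTorLib.subsingleton_tor_of_flat_left _ N i
    · rw [truncLen, img_bot, bot_sup_eq, G.length_quot_pi_F, ENat.toNat_natCast, torSum, Finset.range_zero,
        Finset.sum_empty, add_zero, map_sum]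
      simp only [act_X_pow, Nat.cast_sum]
  | step b d b' d' D hD hres ih =>
    obtain ⟨ℓ, c, ih⟩ := ih
    refine ⟨ℓ + 1, ∑ j, X ^ d j - c, fun N _ _ _ G hfin => ?_⟩
    let Q := (Fin b → A) ⧸ LinearMap.range (mv D A)
    let Q' := (Fin b' → A) ⧸ LinearMap.ker (mv D A)
    choose e he using fun p => (⟨Classical.choice (tor_shift_res N D p), trivial⟩ :
      ∃ _e : DRing.Tor A (p + 2) Q N ≃ₗ[A] DRing.Tor A (p + 1) Q' N, True)
    have hfin' : ∀ i, IsFiniteLength A (DRing.Tor A (i + 1) Q' N) := fun i => (e i).isFiniteLength (hfin (i + 1))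
    obtain ⟨hvan, hev⟩ := ih N G hfin'
    refine ⟨fun i hi => ?_, ?_⟩
    · obtain ⟨i, rfl⟩ : ∃ k, i = k + 1 := ⟨i - 1, by omega⟩
      haveI := hvan i (by omega)
      exact (e i).injective.subsingleton
    set B := img (LinearMap.range (mv D A)) N with hBdef
    set B' := img (LinearMap.ker (mv D A)) N with hB'def
    set Z := LinearMap.ker (mv D N) with hZ
    have hB'Z : B' ≤ Z := by
      rw [hB'def, ← ker_cover, hZ, ← φ_cover N D]
      exact LinearMap.ker_le_ker_comp _ _
    have h1 : lenQ Z B' = Module.length A (DRing.Tor A 1 Q N) := by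
      obtain ⟨e₁⟩ := exists_tor_one_equiv (LinearMap.range (mv D A)) N
      have h := lenQ_map (M := Fin b' → N) (N := (LinearMap.range (mv D A)) ⊗[A] N) (cover N D) Z ⊥
      have hmap : Z.map (cover N D) = LinearMap.ker (φ (LinearMap.range (mv D A)) N) := by
        rw [hZ, ← φ_cover N D, LinearMap.ker_comp,
          Submodule.map_comap_eq_of_surjective (cover_surjective N D)]
      rw [Submodule.comap_bot, ker_cover, ← hB'def, inf_eq_right.2 hB'Z, sup_bot_eq, hmap, lenQ_bot] at h
      rw [h]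
      letI : AddCommGroup ↥(LinearMap.ker (φ (LinearMap.range (mv D A)) N)) :=
        @Submodule.addCommGroup A ((LinearMap.range (mv D A)) ⊗[A] N) _ _ _ (LinearMap.ker (φ (LinearMap.range (mv D A)) N))
      exact e₁.length_eq.symm
    have h1fin : lenQ Z B' ≠ ⊤ := by
      rw [h1, Module.length_ne_top_iff]
      exact hfin 0
    filter_upwards [hev, (G.pi d').eventually_inf_F_le (hom_img N G hres) h1fin] with n hn hTn
    set T := (G.pi d).F n with hT
    set T' := (G.pi d').F n with hT'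
    have e1 : Module.length A ((Fin b → N) ⧸ T) =
        Module.length A ((Fin b → N) ⧸ (B ⊔ T)) + lenQ (B ⊔ T) T := by
      rw [← lenQ_top, ← lenQ_top, lenQ_add le_sup_right le_top]
    have e2 : lenQ (B ⊔ T) T = Module.length A ((Fin b' → N) ⧸ (Z ⊔ T')) := by
      rw [hBdef, ← range_mv, ← Submodule.map_top, ← lenQ_map, top_inf_eq, hT,
        (hD.comm G).comap_F, lenQ_top]
    have e3 : Module.length A ((Fin b' → N) ⧸ (B' ⊔ T')) =
        Module.length A ((Fin b' → N) ⧸ (Z ⊔ T')) + lenQ Z B' := by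
      rw [← lenQ_top, ← lenQ_top, lenQ_add (sup_le_sup_right hB'Z T') le_top, lenQ_sup_sup hB'Z hTn]
    rw [G.length_quot_pi_F, e2] at e1
    rw [h1] at e3
    have f1 := (G.pi d).length_quot_F_le n (le_sup_right : T ≤ B ⊔ T)
    have f2 := (G.pi d').length_quot_F_le n (le_sup_right : T' ≤ Z ⊔ T')
    have f3 : Module.length A (DRing.Tor A 1 Q N) ≠ ⊤ := Module.length_ne_top_iff.2 (hfin 0)
    have g1 := congrArg ENat.toNat e1
    rw [ENat.toNat_add f1 f2, ENat.toNat_natCast] at g1
    have g3 := congrArg ENat.toNat e3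
    rw [ENat.toNat_add f2 f3] at g3
    have hshift : torSum (A := A) (ℓ + 1) Q N =
        (Module.length A (DRing.Tor A 1 Q N)).toNat - torSum (A := A) ℓ Q' N := by
      rw [torSum, Finset.sum_range_succ', torSum, pow_zero, one_mul, add_comm, sub_eq_add_neg,
        ← Finset.sum_neg_distrib]
      refine congrArg₂ _ rfl (Finset.sum_congr rfl fun i _ => ?_)
      rw [(e i).length_eq, pow_succ]
      ring
    have g1' := congrArg (Nat.cast (R := ℤ)) g1
    have g3' := congrArg (Nat.cast (R := ℤ)) g3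
    simp only [Nat.cast_add, Nat.cast_sum] at g1' g3'
    rw [truncLen] at hn ⊢
    rw [map_sub, map_sum, hshift]
    simp only [act_X_pow]
    linarith

end main

end Groth.GrInt
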