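import Mathlib

/-!
Graded modules presented by their component projections; truncations by degree.
-/

set_option autoImplicit false
set_option linter.unusedSectionVars false

universe u v

open DirectSum

namespace Groth.GrInt

variable {A : Type u} [CommRing A] {σ : Type*} [SetLike σ A] [AddSubgroupClass σ A]
  (𝒜 : ℕ → σ) [GradedRing 𝒜]

/-- A grading on an `A`-module, given by its component projections. -/
structure GMod (X : Type v) [AddCommGroup X] [Module A X] where
  cp : ℕ → X →+ X
  cp_cp : ∀ i j x, cp i (cp j x) = if i = j then cp j x else 0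
  exists_bound : ∀ x, ∃ n, ∀ g, n ≤ g → cp g x = 0
  ext_cp : ∀ x, (∀ g, cp g x = 0) → x = 0
  cp_smul : ∀ (g e : ℕ) (a : A), a ∈ 𝒜 e → ∀ x, cp g (a • x) = if e ≤ g then a • cp (g - e) x else 0

namespace GMod

variable {𝒜} {X : Type v} [AddCommGroup X] [Module A X] (G : GMod 𝒜 X)

theorem cp_of_cp_eq {g : ℕ} {x : X} (h : G.cp g x = x) (i : ℕ) :
    G.cp i x = if i = g then x else 0 := by
  conv_lhs => rw [← h]
  rw [G.cp_cp, h]

theorem cp_eq_self_of_cp {i : ℕ} (x : X) : G.cp i (G.cp i x) = G.cp i x := by simp [G.cp_cp]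

theorem sum_cp {x : X} {n : ℕ} (hn : ∀ g, n ≤ g → G.cp g x = 0) :
    ∑ g ∈ Finset.range n, G.cp g x = x := by
  refine sub_eq_zero.1 (G.ext_cp _ fun i => ?_)
  rw [map_sub, map_sum]
  simp only [G.cp_cp, Finset.sum_ite_eq, Finset.mem_range]
  split_ifs with h
  · exact sub_self _
  · rw [hn i (not_lt.1 h), sub_self]

theorem eq_sum_cp (x : X) : ∃ n, x = ∑ g ∈ Finset.range n, G.cp g x := by
  obtain ⟨n, hn⟩ := G.exists_bound x
  exact ⟨n, (G.sum_cp hn).symm⟩

/-- expansion of the component of a product -/
theorem cp_smul_expand (g : ℕ) (a : A) (x : X) :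
    G.cp g (a • x) = ∑ e ∈ Finset.range (g + 1), (decompose 𝒜 a e : A) • G.cp (g - e) x := by
  classical
  induction a using DirectSum.Decomposition.inductionOn 𝒜 with
  | zero => simp
  | @homogeneous b s =>
    rw [G.cp_smul g b s s.2]
    split_ifs with hb
    · rw [Finset.sum_eq_single b]
      · rw [decompose_of_mem_same 𝒜 s.2]
      · intro c _ hc
        rw [decompose_of_mem_ne 𝒜 s.2 (Ne.symm hc), zero_smul]
      · intro h
        exact absurd (Finset.mem_range.mpr (by omega)) h
    · refine (Finset.sum_eq_zero fun c hc => ?_).symm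
      rw [decompose_of_mem_ne 𝒜 s.2 (by have := Finset.mem_range.mp hc; omega), zero_smul]
  | add s t hs ht =>
    rw [add_smul, map_add, hs, ht, ← Finset.sum_add_distrib]
    refine Finset.sum_congr rfl fun e _ => ?_
    rw [decompose_add, DirectSum.add_apply, ← add_smul]
    rfl

/-- the elements with all components of degree `< n` zero -/
def F (n : ℕ) : Submodule A X where
  carrier := {x | ∀ g, g < n → G.cp g x = 0}
  zero_mem' := fun g _ => map_zero _
  add_mem' := fun ha hb g hg => by rw [map_add, ha g hg, hb g hg, add_zero]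
  smul_mem' := fun a x hx g hg => by
    rw [G.cp_smul_expand]
    exact Finset.sum_eq_zero fun e _ => by rw [hx (g - e) (by omega), smul_zero]

theorem mem_F {n : ℕ} {x : X} : x ∈ G.F n ↔ ∀ g, g < n → G.cp g x = 0 := Iff.rfl

theorem F_anti {m n : ℕ} (h : m ≤ n) : G.F n ≤ G.F m := fun _ hx g hg => hx g (lt_of_lt_of_le hg h)

theorem F_zero : G.F 0 = ⊤ := eq_top_iff.2 fun _ _ g hg => absurd hg (Nat.not_lt_zero g)

theorem cp_mem_F {n g : ℕ} (h : n ≤ g) (x : X) : G.cp g x ∈ G.F n := fun i hi => by
  rw [G.cp_cp, if_neg (by omega)]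

/-- closed under the component projections -/
def Hom (K : Submodule A X) : Prop := ∀ g, ∀ x ∈ K, G.cp g x ∈ K

theorem hom_top : G.Hom ⊤ := fun _ _ _ => trivial

theorem mem_of_cp {K : Submodule A X} {x : X} (h : ∀ g, G.cp g x ∈ K) : x ∈ K := by
  obtain ⟨n, hn⟩ := G.eq_sum_cp x
  rw [hn]
  exact K.sum_mem fun g _ => h g

theorem hom_F (n : ℕ) : G.Hom (G.F n) := fun g x hx i hi => by
  rw [G.cp_cp]
  split_ifs with h
  · exact hx g (h ▸ hi)
  · rfl

/-- a map commuting with the projections -/
def Comm {Y : Type*} [AddCommGroup Y] [Module A Y] (H : GMod 𝒜 Y) (f : X →ₗ[A] Y) : Prop :=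
  ∀ g x, H.cp g (f x) = f (G.cp g x)

variable {G} {Y : Type*} [AddCommGroup Y] [Module A Y] {H : GMod 𝒜 Y} {f : X →ₗ[A] Y}

theorem Comm.hom_ker (hf : G.Comm H f) : G.Hom (LinearMap.ker f) := fun g x hx => by
  rw [LinearMap.mem_ker, ← hf, LinearMap.mem_ker.1 hx, map_zero]

theorem Comm.hom_range (hf : G.Comm H f) : H.Hom (LinearMap.range f) := by
  rintro g _ ⟨x, rfl⟩
  exact ⟨G.cp g x, (hf g x).symm⟩

/-- strictness -/
theorem Comm.comap_F (hf : G.Comm H f) (n : ℕ) :
    (H.F n).comap f = LinearMap.ker f ⊔ G.F n := by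
  refine le_antisymm (fun x hx => ?_) (sup_le (fun x hx => ?_) (fun x hx g hg => ?_))
  · let z := ∑ g ∈ Finset.range n, G.cp g x
    have h1 : z ∈ LinearMap.ker f := Submodule.sum_mem _ fun g hg => by
      rw [LinearMap.mem_ker, ← hf]
      exact hx g (Finset.mem_range.1 hg)
    have h2 : x - z ∈ G.F n := fun i hi => by
      rw [map_sub, map_sum]
      simp only [G.cp_cp, Finset.sum_ite_eq, Finset.mem_range, if_pos hi, sub_self]
    rw [show x = z + (x - z) by abel]
    exact Submodule.add_mem_sup h1 h2
  · rw [Submodule.mem_comap, LinearMap.mem_ker.1 hx]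
    exact Submodule.zero_mem _
  · rw [hf, hx g hg, map_zero]

theorem Comm.map_F (hf : G.Comm H f) (hs : Function.Surjective f) (n : ℕ) :
    (G.F n).map f = H.F n := by
  rw [← Submodule.map_comap_eq_of_surjective hs (H.F n), hf.comap_F, Submodule.map_sup,
    LinearMap.le_ker_iff_map.1 le_rfl, bot_sup_eq]

variable (G) in
/-- free shifted sums -/
def pi {b : ℕ} (d : Fin b → ℕ) : GMod 𝒜 (Fin b → X) where
  cp g :=
    { toFun := fun x j => if d j ≤ g then G.cp (g - d j) (x j) else 0
      map_zero' := by ext; simp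
      map_add' := fun x y => by ext j; by_cases h : d j ≤ g <;> simp [h] }
  cp_cp i k x := by
    ext j
    show (if d j ≤ i then G.cp (i - d j) (if d j ≤ k then G.cp (k - d j) (x j) else 0) else 0) = _
    by_cases h : i = k
    · subst h
      rw [if_pos rfl]
      show _ = if d j ≤ i then G.cp (i - d j) (x j) else 0
      by_cases hi : d j ≤ i <;> simp [hi, G.cp_cp]
    · rw [if_neg h, Pi.zero_apply]
      by_cases hi : d j ≤ i <;> by_cases hk : d j ≤ k <;> simp [hi, hk, G.cp_cp]
      intro h'
      omega
  exists_bound x := by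
    choose n hn using fun j => G.exists_bound (x j)
    refine ⟨∑ j, (n j + d j), fun g hg => funext fun j => ?_⟩
    show (if d j ≤ g then G.cp (g - d j) (x j) else 0) = 0
    have : n j + d j ≤ g := (Finset.single_le_sum (f := fun j => n j + d j) (fun _ _ => Nat.zero_le _)
      (Finset.mem_univ j)).trans hg
    rw [if_pos (by omega)]
    exact hn j _ (by omega)
  ext_cp x hx := funext fun j => G.ext_cp _ fun g => by
    have := congrFun (hx (g + d j)) j
    simpa using this
  cp_smul g e a ha x := by
    ext j
    show (if d j ≤ g then G.cp (g - d j) (a • x j) else 0) = _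
    rw [G.cp_smul _ e a ha]
    by_cases he : e ≤ g
    · rw [if_pos he, Pi.smul_apply]
      show _ = a • if d j ≤ g - e then G.cp (g - e - d j) (x j) else 0
      by_cases hg : d j ≤ g
      · rw [if_pos hg]
        by_cases h : e ≤ g - d j
        · rw [if_pos h, if_pos (by omega), show g - d j - e = g - e - d j by omega]
        · rw [if_neg h, if_neg (by omega), smul_zero]
      · rw [if_neg hg, if_neg (by omega), smul_zero]
    · rw [if_neg he, Pi.zero_apply]
      by_cases hg : d j ≤ g
      · rw [if_pos hg, if_neg (by omega)]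
      · rw [if_neg hg]

variable (G)

theorem pi_cp {b : ℕ} (d : Fin b → ℕ) (g : ℕ) (x : Fin b → X) (j : Fin b) :
    (G.pi d).cp g x j = if d j ≤ g then G.cp (g - d j) (x j) else 0 := rfl

theorem pi_F {b : ℕ} (d : Fin b → ℕ) (n : ℕ) :
    (G.pi d).F n = Submodule.pi Set.univ (fun j => G.F (n - d j)) := by
  ext x
  simp only [Submodule.mem_pi, Set.mem_univ, true_implies, mem_F, funext_iff, pi_cp, Pi.zero_apply]
  constructor
  · intro h j g hg
    simpa using h (g + d j) (by omega) j
  · intro h g hg j
    split_ifs with hd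
    · exact h j _ (by omega)
    · rfl

end GMod

section ofDecomposition

variable {M : Type v} [AddCommGroup M] [Module A M] {τ : Type*} [SetLike τ M] [AddSubgroupClass τ M]
  (ℳ : ℕ → τ) [Decomposition ℳ] [SetLike.GradedSMul 𝒜 ℳ]

/-- the projections of a decomposition -/
def GMod.ofDecomposition : GMod 𝒜 M where
  cp g :=
    { toFun := fun x => (decompose ℳ x g : M)
      map_zero' := by simp
      map_add' := fun x y => by simp [decompose_add] }
  cp_cp i j x := by
    classical
    show (decompose ℳ (decompose ℳ x j : M) i : M) = _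
    split_ifs with h
    · subst h; exact decompose_of_mem_same ℳ (decompose ℳ x i).2
    · exact decompose_of_mem_ne ℳ (decompose ℳ x j).2 (Ne.symm h)
  exists_bound x := by
    classical
    refine ⟨(decompose ℳ x).support.sup id + 1, fun g hg => ?_⟩
    show (decompose ℳ x g : M) = 0
    by_contra hne
    have hmem : g ∈ (decompose ℳ x).support :=
      DFinsupp.mem_support_iff.2 fun h => hne (by rw [h, ZeroMemClass.coe_zero])
    have := Finset.le_sup (f := id) hmem
    simp only [id] at this
    omega
  ext_cp x hx := by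
    classical
    rw [← sum_support_decompose ℳ x]
    exact Finset.sum_eq_zero fun g _ => hx g
  cp_smul g e a ha x := by
    classical
    show (decompose ℳ (a • x) g : M) = if e ≤ g then a • (decompose ℳ x (g - e) : M) else 0
    induction x using DirectSum.Decomposition.inductionOn ℳ with
    | zero => simp
    | @homogeneous j m =>
      have hm : a • (m : M) ∈ ℳ (e + j) := SetLike.GradedSMul.smul_mem ha m.2
      by_cases h : e + j = g
      · subst h
        rw [decompose_of_mem_same ℳ hm, if_pos (by omega), show e + j - e = j by omega,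
          decompose_of_mem_same ℳ m.2]
      · rw [decompose_of_mem_ne ℳ hm h]
        split_ifs with h2
        · rw [decompose_of_mem_ne ℳ m.2 (by omega), smul_zero]
        · rfl
    | add x y hx hy =>
      rw [smul_add, decompose_add, DirectSum.add_apply]
      show (decompose ℳ (a • x) g : M) + (decompose ℳ (a • y) g : M) = _
      rw [hx, hy, decompose_add, DirectSum.add_apply]
      split_ifs with h2
      · exact (smul_add a _ _).symm
      · exact add_zero _

theorem GMod.ofDecomposition_cp (g : ℕ) (x : M) :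
    (GMod.ofDecomposition 𝒜 ℳ).cp g x = (decompose ℳ x g : M) := rfl

end ofDecomposition

/-- the grading of the ring -/
abbrev ringGMod : GMod 𝒜 A := GMod.ofDecomposition 𝒜 𝒜

end Groth.GrInt
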