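import Groth.Agent.FrobLCI.GrInt.Euler
import Groth.Agent.Ega41Dim.Degree

/-!
Standard graded rings over an Artinian local ring: truncations and powers of the irrelevant ideal.
-/

set_option autoImplicit false
set_option linter.unusedSectionVars false

universe u v

open DirectSum Filter Polynomial
open Groth.Ega41Dim (lenQ lenQ_top lenQ_add hs IsHSPoly exists_isHSPoly)

namespace Groth.GrInt

variable {A : Type u} [CommRing A] {σ : Type*} [SetLike σ A] [AddSubgroupClass σ A]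
  {𝒜 : ℕ → σ} [GradedRing 𝒜]

variable (𝒜) in
/-- shorthand for the irrelevant ideal -/
abbrev irr : Ideal A := (HomogeneousIdeal.irrelevant 𝒜).toIdeal

theorem mem_irr_iff {a : A} : a ∈ irr 𝒜 ↔ GradedRing.projZeroRingHom' 𝒜 a = 0 := by
  refine (HomogeneousIdeal.mem_irrelevant_iff 𝒜 a).trans ?_
  rw [← ZeroMemClass.coe_eq_zero, GradedRing.coe_projZeroRingHom'_apply]
  rfl

theorem mk_comp_algebraMap_surjective :
    Function.Surjective ((Ideal.Quotient.mk (irr 𝒜)).comp (algebraMap (𝒜 0) A)) := by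
  intro y
  obtain ⟨a, rfl⟩ := Ideal.Quotient.mk_surjective y
  refine ⟨GradedRing.projZeroRingHom' 𝒜 a, (Ideal.Quotient.eq.2 ?_)⟩
  rw [mem_irr_iff, map_sub, sub_eq_zero]
  exact GradedRing.projZeroRingHom'_apply_coe 𝒜 _

theorem isArtinianRing_quotient_irr [IsArtinianRing (𝒜 0)] : IsArtinianRing (A ⧸ irr 𝒜) :=
  mk_comp_algebraMap_surjective.isArtinianRing

theorem mem_pow_of_mem (hgen : irr 𝒜 = Ideal.span (𝒜 1 : Set A)) :
    ∀ (e : ℕ) {a : A}, a ∈ 𝒜 e → a ∈ irr 𝒜 ^ e := by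
  intro e
  induction e with
  | zero => intro a _; rw [pow_zero, Ideal.one_eq_top]; trivial
  | succ e ih =>
    intro a ha
    have h1 : a ∈ irr 𝒜 := HomogeneousIdeal.mem_irrelevant_of_mem 𝒜 (Nat.succ_pos e) ha
    rw [hgen, Submodule.mem_span_set] at h1
    obtain ⟨c, hc, hsum⟩ := h1
    rw [← decompose_of_mem_same 𝒜 ha, ← GradedRing.proj_apply, ← hsum, Finsupp.sum, map_sum]
    refine Ideal.sum_mem _ fun g hg => ?_
    have hg1 : g ∈ 𝒜 1 := hc hg
    rw [GradedRing.proj_apply, smul_eq_mul, coe_decompose_mul_of_right_mem 𝒜 (e + 1) hg1,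
      if_pos (by omega), Nat.add_sub_cancel, pow_succ]
    exact Ideal.mul_mem_mul (ih (SetLike.coe_mem _)) (HomogeneousIdeal.mem_irrelevant_of_mem 𝒜 one_pos hg1)

theorem finiteType_gradeZero [IsNoetherianRing A] (hgen : irr 𝒜 = Ideal.span (𝒜 1 : Set A)) :
    Algebra.FiniteType (𝒜 0) A := by
  obtain ⟨s, hs, hspan⟩ := (Submodule.fg_span_iff_fg_span_finset_subset (R := A) (𝒜 1 : Set A)).1
    (IsNoetherian.noetherian _)
  refine ⟨⟨s, top_le_iff.1 fun a _ => ?_⟩⟩
  suffices H : ∀ n, ∀ a ∈ 𝒜 n, a ∈ Algebra.adjoin (𝒜 0) (s : Set A) by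
    classical
    rw [← sum_support_decompose 𝒜 a]
    exact Subalgebra.sum_mem _ fun i _ => H i _ (SetLike.coe_mem _)
  intro n
  induction n with
  | zero => exact fun a ha => Subalgebra.algebraMap_mem _ (⟨a, ha⟩ : 𝒜 0)
  | succ n ih =>
    intro a ha
    have h1 : a ∈ irr 𝒜 := HomogeneousIdeal.mem_irrelevant_of_mem 𝒜 (Nat.succ_pos n) ha
    rw [hgen] at h1
    obtain ⟨f, -, hfa⟩ := Submodule.mem_span_finset.1 (hspan.le h1)
    rw [← decompose_of_mem_same 𝒜 ha, ← GradedRing.proj_apply, ← hfa, map_sum]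
    refine Subalgebra.sum_mem _ fun g hg => ?_
    rw [GradedRing.proj_apply, smul_eq_mul,
      coe_decompose_mul_of_right_mem 𝒜 (n + 1) (hs (Finset.mem_coe.2 hg)), if_pos (by omega),
      Nat.add_sub_cancel]
    exact Subalgebra.mul_mem _ (ih _ (SetLike.coe_mem _)) (Algebra.subset_adjoin (Finset.mem_coe.2 hg))

namespace GMod

variable {X : Type u} [AddCommGroup X] [Module A X] (G : GMod 𝒜 X)

theorem pow_smul_F_le (i d : ℕ) : irr 𝒜 ^ i • G.F d ≤ G.F (d + i) := by
  induction i with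
  | zero => rw [pow_zero, Ideal.one_eq_top, Submodule.top_smul, add_zero]
  | succ i ih =>
    rw [pow_succ', mul_smul]
    exact (smul_mono_right _ ih).trans (G.smul_F_le (d + i))

theorem exists_F_eq [Module.Finite A X] (hgen : irr 𝒜 = Ideal.span (𝒜 1 : Set A)) :
    ∃ c, ∀ j, G.F (c + j) = irr 𝒜 ^ j • G.F c := by
  obtain ⟨b, d, v, hv, hs⟩ := G.exists_gens G.hom_top Module.Finite.fg_top
  refine ⟨Finset.univ.sup d, fun j => le_antisymm (fun x hx => ?_) (G.pow_smul_F_le j _)⟩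
  refine G.mem_of_cp fun g => ?_
  by_cases hg : g < Finset.univ.sup d + j
  · rw [hx g hg]; exact Submodule.zero_mem _
  · obtain ⟨a, ha⟩ := (Submodule.mem_span_range_iff_exists_fun A).1
      (show x ∈ Submodule.span A (Set.range v) by rw [hs]; trivial)
    rw [← ha, map_sum]
    refine Submodule.sum_mem _ fun k _ => ?_
    have hdk : d k ≤ Finset.univ.sup d := Finset.le_sup (Finset.mem_univ k)
    rw [G.cp_smul_homog (hv k), if_pos (by omega)]
    have hv' : v k ∈ G.F (d k) := hv k ▸ G.cp_mem_F le_rfl _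
    have h1 : (decompose 𝒜 (a k) (g - d k) : A) • v k ∈ irr 𝒜 ^ (j + (g - d k - j)) • G.F (d k) := by
      refine Submodule.smul_mem_smul ?_ hv'
      rw [show j + (g - d k - j) = g - d k by omega]
      exact mem_pow_of_mem hgen _ (SetLike.coe_mem _)
    rw [pow_add, mul_smul] at h1
    exact smul_mono_right _ ((G.pow_smul_F_le _ (d k)).trans (G.F_anti (by omega))) h1

/-- the truncation function is eventually a polynomial, of the degree of the Hilbert–Samuel
polynomial -/
theorem exists_poly [IsNoetherianRing A] [IsArtinianRing (A ⧸ irr 𝒜)] [Module.Finite A X]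
    (hgen : irr 𝒜 = Ideal.span (𝒜 1 : Set A)) :
    ∃ P Q : ℚ[X], (∀ᶠ n in atTop, (S G n : ℚ) = P.eval (n : ℚ)) ∧ IsHSPoly (irr 𝒜) X Q ∧
      P.natDegree = Q.natDegree := by
  obtain ⟨c, hc⟩ := G.exists_F_eq hgen
  haveI : Module.Finite A (G.F c) := Module.Finite.iff_fg.2 (IsNoetherian.noetherian _)
  obtain ⟨R, hR⟩ := exists_isHSPoly (irr 𝒜) ↥(G.F c)
  obtain ⟨Q, hQ⟩ := exists_isHSPoly (irr 𝒜) X
  have hlen : ∀ j, S G (c + j) = S G c + hs (irr 𝒜) ↥(G.F c) j := fun j => by
    have h : Module.length A (X ⧸ G.F (c + j)) = Module.length A (X ⧸ G.F c) +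
        Module.length A (↥(G.F c) ⧸ irr 𝒜 ^ j • (⊤ : Submodule A (G.F c))) := by
      rw [← lenQ_top, ← lenQ_top, lenQ_add (G.F_anti (Nat.le_add_right c j)) le_top]
      congr 1
      refine (Submodule.quotEquivOfEq _ _ ?_).length_eq
      rw [hc j]
      refine Submodule.map_injective_of_injective (f := (G.F c).subtype) Subtype.val_injective ?_
      rw [Submodule.map_smul'', Submodule.map_subtype_top,
        Submodule.map_comap_subtype, inf_eq_right.2 Submodule.smul_le_right]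
    have h' := congrArg ENat.toNat h
    rwa [ENat.toNat_add (G.length_quot_F_le c le_rfl)
      (Groth.Ega41Dim.length_quot_ne_top (irr 𝒜) _ j)] at h'
  let P : ℚ[X] := C (S G c : ℚ) + R.comp (Polynomial.X - C (c : ℚ))
  have hP : ∀ᶠ n in atTop, (S G n : ℚ) = P.eval (n : ℚ) := by
    filter_upwards [Groth.Ega41Dim.eventually_comp_sub c hR, eventually_ge_atTop c] with n hn hcn
    obtain ⟨j, rfl⟩ := Nat.exists_eq_add_of_le hcn
    rw [hlen, eval_add, eval_C, Groth.Ega41Dim.eval_comp_X_sub R hcn, ← hn, Nat.cast_add,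
      Nat.add_sub_cancel_left]
  have hle : ∀ n, S G n ≤ hs (irr 𝒜) X n := fun n => by
    refine ENat.toNat_le_toNat ?_ (Groth.Ega41Dim.length_quot_ne_top (irr 𝒜) X n)
    exact Module.length_le_of_surjective (Submodule.factor (G.pow_smul_le_F n))
      (Submodule.factor_surjective _)
  have hge : ∀ n, hs (irr 𝒜) X n ≤ S G (c + n) := fun n => by
    refine ENat.toNat_le_toNat ?_ (G.length_quot_F_le _ le_rfl)
    exact Module.length_le_of_surjective
      (Submodule.factor (show G.F (c + n) ≤ irr 𝒜 ^ n • ⊤ from (hc n).le.trans (smul_mono_right _ le_top)))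
      (Submodule.factor_surjective _)
  refine ⟨P, Q, hP, hQ, le_antisymm ?_ ?_⟩
  · refine Groth.Ega41Dim.natDegree_le_of_eventually_le ?_
    filter_upwards [hP, hQ] with n h1 h2
    rw [← h1, ← h2]
    exact ⟨Nat.cast_nonneg _, Nat.cast_le.2 (hle n)⟩
  · rw [← Groth.Ega41Dim.natDegree_comp_X_sub Q c]
    refine Groth.Ega41Dim.natDegree_le_of_eventually_le ?_
    filter_upwards [hP, Groth.Ega41Dim.eventually_comp_sub c hQ, eventually_ge_atTop c] with n h1 h2 hcn
    rw [Groth.Ega41Dim.eval_comp_X_sub Q hcn, ← h1, ← h2]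
    exact ⟨Nat.cast_nonneg _, Nat.cast_le.2 ((hge _).trans_eq (by rw [Nat.add_sub_cancel' hcn]))⟩

theorem exists_S_pos [IsNoetherianRing A] [IsArtinianRing (A ⧸ irr 𝒜)] [Module.Finite A X]
    [Nontrivial X] : ∀ᶠ n in atTop, 0 < S G n := by
  obtain ⟨x, hx⟩ := exists_ne (0 : X)
  obtain ⟨g, hg⟩ : ∃ g, G.cp g x ≠ 0 := by
    by_contra h
    push Not at h
    exact hx (G.ext_cp x h)
  filter_upwards [eventually_gt_atTop g] with n hn
  rw [S, Nat.pos_iff_ne_zero, ne_eq, ENat.toNat_eq_zero]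
  rintro (h | h)
  · rw [Module.length_eq_zero_iff, Submodule.Quotient.subsingleton_iff, eq_top_iff] at h
    exact hg (by simpa [G.cp_cp] using (h (show G.cp g x ∈ ⊤ from trivial)) g hn)
  · exact G.length_quot_F_le n le_rfl h

end GMod

end Groth.GrInt
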