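import Groth.Agent.FrobLCI.GrInt.GMod
import Mathlib.CategoryTheory.Abelian.Projective.Dimension

/-!
Finite resolutions by shifted free modules.
-/

set_option autoImplicit false
set_option linter.unusedSectionVars false

universe u v

open DirectSum CategoryTheory

namespace Groth.GrInt

variable {A : Type u} [CommRing A] {σ : Type*} [SetLike σ A] [AddSubgroupClass σ A]
  (𝒜 : ℕ → σ) [GradedRing 𝒜]

/-- a matrix of homogeneous elements for the degrees `d`, `d'` -/
def IsHom {b b' : ℕ} (d : Fin b → ℕ) (d' : Fin b' → ℕ) (D : Fin b → Fin b' → A) : Prop :=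
  ∀ j k, (d j ≤ d' k ∧ D j k ∈ 𝒜 (d' k - d j)) ∨ D j k = 0

/-- the map of a matrix on the powers of a module -/
def mv {b b' : ℕ} (D : Fin b → Fin b' → A) (X : Type v) [AddCommGroup X] [Module A X] :
    (Fin b' → X) →ₗ[A] (Fin b → X) :=
  LinearMap.pi fun j => ∑ k, D j k • LinearMap.proj k

theorem mv_apply {b b' : ℕ} (D : Fin b → Fin b' → A) {X : Type v} [AddCommGroup X] [Module A X]
    (x : Fin b' → X) (j : Fin b) : mv D X x j = ∑ k, D j k • x k := by
  simp [mv]

variable {𝒜}

theorem IsHom.comm {b b' : ℕ} {d : Fin b → ℕ} {d' : Fin b' → ℕ} {D : Fin b → Fin b' → A}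
    (hD : IsHom 𝒜 d d' D) {X : Type v} [AddCommGroup X] [Module A X] (G : GMod 𝒜 X) :
    (G.pi d').Comm (G.pi d) (mv D X) := by
  intro g x
  ext j
  rw [G.pi_cp, mv_apply, mv_apply]
  by_cases hj : d j ≤ g
  · rw [if_pos hj, map_sum]
    refine Finset.sum_congr rfl fun k _ => ?_
    rcases hD j k with ⟨hle, hmem⟩ | h0
    · rw [G.cp_smul _ _ _ hmem, G.pi_cp]
      by_cases hk : d' k ≤ g
      · rw [if_pos (by omega), if_pos hk, show g - d j - (d' k - d j) = g - d' k by omega]
      · rw [if_neg (by omega), if_neg hk, smul_zero]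
    · rw [h0, zero_smul, zero_smul, map_zero]
  · rw [if_neg hj]
    refine (Finset.sum_eq_zero fun k _ => ?_).symm
    rcases hD j k with ⟨hle, -⟩ | h0
    · rw [G.pi_cp, if_neg (by omega), smul_zero]
    · rw [h0, zero_smul]

variable (𝒜) in
/-- the shifted free module -/
abbrev free {b : ℕ} (d : Fin b → ℕ) : GMod 𝒜 (Fin b → A) := (ringGMod 𝒜).pi d

namespace GMod

variable {X : Type v} [AddCommGroup X] [Module A X] (G : GMod 𝒜 X)

theorem cp_smul_homog {e : ℕ} {x : X} (hx : G.cp e x = x) (g : ℕ) (a : A) :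
    G.cp g (a • x) = if e ≤ g then (decompose 𝒜 a (g - e) : A) • x else 0 := by
  rw [G.cp_smul_expand]
  split_ifs with h
  · rw [Finset.sum_eq_single (g - e)]
    · rw [show g - (g - e) = e by omega, hx]
    · intro i hi hne
      rw [G.cp_of_cp_eq hx, if_neg (by have := Finset.mem_range.1 hi; omega), smul_zero]
    · intro hi
      exact absurd (Finset.mem_range.2 (by omega)) hi
  · refine Finset.sum_eq_zero fun i hi => ?_
    rw [G.cp_of_cp_eq hx, if_neg (by omega), smul_zero]

/-- homogeneous generators -/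
theorem exists_gens {K : Submodule A X} (hK : G.Hom K) (hfg : K.FG) :
    ∃ (b : ℕ) (d : Fin b → ℕ) (v : Fin b → X),
      (∀ k, G.cp (d k) (v k) = v k) ∧ Submodule.span A (Set.range v) = K := by
  classical
  obtain ⟨s, hs⟩ := hfg
  choose n hn using G.eq_sum_cp
  let ι := Σ x : {x // x ∈ s}, Fin (n x.1)
  let e : Fin (Fintype.card ι) ≃ ι := (Fintype.equivFin ι).symm
  refine ⟨Fintype.card ι, fun k => (e k).2.1, fun k => G.cp (e k).2.1 (e k).1.1,
    fun k => G.cp_eq_self_of_cp _, le_antisymm (Submodule.span_le.2 ?_) ?_⟩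
  · rintro _ ⟨k, rfl⟩
    exact hK _ _ (hs ▸ Submodule.subset_span (e k).1.2)
  · conv_lhs => rw [← hs]
    rw [Submodule.span_le]
    intro x hx
    rw [SetLike.mem_coe, hn x]
    refine Submodule.sum_mem _ fun g hg => Submodule.subset_span ⟨e.symm ⟨⟨x, hx⟩, ⟨g, Finset.mem_range.1 hg⟩⟩, ?_⟩
    exact congrArg (fun z : ι => G.cp z.2.1 z.1.1) (e.apply_symm_apply _)

end GMod

/-- the matrix of homogeneous elements of a free module is homogeneous -/
theorem isHom_of_cp {b b' : ℕ} {d : Fin b → ℕ} {d' : Fin b' → ℕ} {v : Fin b' → Fin b → A}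
    (hv : ∀ k, (free 𝒜 d).cp (d' k) (v k) = v k) : IsHom 𝒜 d d' (fun j k => v k j) := by
  intro j k
  have h := congrFun (hv k) j
  rw [GMod.pi_cp] at h
  by_cases hj : d j ≤ d' k
  · rw [if_pos hj, GMod.ofDecomposition_cp] at h
    refine Or.inl ⟨hj, ?_⟩
    show v k j ∈ _
    rw [← h]
    exact SetLike.coe_mem _
  · rw [if_neg hj] at h
    exact Or.inr h.symm

theorem mv_eq_linearCombination {b b' : ℕ} (v : Fin b' → Fin b → A) :
    mv (fun j k => v k j) A = Fintype.linearCombination A v := by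
  refine LinearMap.ext fun a => funext fun j => ?_
  rw [mv_apply, Fintype.linearCombination_apply, Finset.sum_apply]
  exact Finset.sum_congr rfl fun k _ => by rw [Pi.smul_apply, smul_eq_mul, smul_eq_mul, mul_comm]

variable (𝒜) in
/-- `K` has a finite resolution by shifted free modules -/
inductive HasRes : ∀ (b : ℕ), (Fin b → ℕ) → Submodule A (Fin b → A) → Prop
  | zero (b : ℕ) (d : Fin b → ℕ) : HasRes b d ⊥
  | step (b : ℕ) (d : Fin b → ℕ) (b' : ℕ) (d' : Fin b' → ℕ) (D : Fin b → Fin b' → A)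
      (hD : IsHom 𝒜 d d' D) (h : HasRes b' d' (LinearMap.ker (mv D A))) :
      HasRes b d (LinearMap.range (mv D A))

theorem HasRes.exists_eq_range {b : ℕ} {d : Fin b → ℕ} {K : Submodule A (Fin b → A)}
    (h : HasRes 𝒜 b d K) : ∃ (b' : ℕ) (d' : Fin b' → ℕ) (D : Fin b → Fin b' → A),
      IsHom 𝒜 d d' D ∧ LinearMap.range (mv D A) = K := by
  cases h with
  | zero => exact ⟨0, Fin.elim0, fun _ => Fin.elim0, fun _ k => k.elim0, LinearMap.range_eq_bot.2
      (LinearMap.ext fun x => funext fun j => by rw [mv_apply]; simp)⟩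
  | step b d b' d' D hD h => exact ⟨b', d', D, hD, rfl⟩

section local_

variable [IsLocalRing (𝒜 0)]

variable (𝒜) in
/-- the homogeneous maximal ideal -/
def maxGr : Ideal A := (IsLocalRing.maximalIdeal (𝒜 0)).comap (GradedRing.projZeroRingHom' 𝒜)

theorem mem_maxGr_iff {a : A} :
    a ∈ maxGr 𝒜 ↔ ¬ IsUnit (GradedRing.projZeroRingHom' 𝒜 a) := Iff.rfl

theorem mem_maxGr_of_mem {e : ℕ} (he : e ≠ 0) {a : A} (ha : a ∈ 𝒜 e) : a ∈ maxGr 𝒜 := by
  have : GradedRing.projZeroRingHom' 𝒜 a = 0 := Subtype.ext (decompose_of_mem_ne 𝒜 ha he)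
  rw [mem_maxGr_iff, this]
  exact not_isUnit_zero

theorem isUnit_of_notMem_maxGr {a : A} (ha : a ∈ 𝒜 0) (h : a ∉ maxGr 𝒜) : IsUnit a := by
  rw [mem_maxGr_iff, not_not] at h
  have h' : GradedRing.projZeroRingHom' 𝒜 a = ⟨a, ha⟩ :=
    GradedRing.projZeroRingHom'_apply_coe 𝒜 (⟨a, ha⟩ : 𝒜 0)
  rw [h'] at h
  exact h.map (algebraMap (𝒜 0) A)

variable {X : Type u} [AddCommGroup X] [Module A X] (G : GMod 𝒜 X)

/-- minimal homogeneous generators have no relation with a unit coefficient -/
theorem mem_maxGr_of_minimal {b : ℕ} {d : Fin b → ℕ} {v : Fin b → X}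
    (hv : ∀ k, G.cp (d k) (v k) = v k)
    (hmin : ∀ b' < b, ∀ (d' : Fin b' → ℕ) (v' : Fin b' → X), (∀ k, G.cp (d' k) (v' k) = v' k) →
      Submodule.span A (Set.range v') ≠ Submodule.span A (Set.range v))
    {a : Fin b → A} {e : ℕ} (ha : (free 𝒜 d).cp e a = a) (h : Fintype.linearCombination A v a = 0)
    (j : Fin b) : a j ∈ maxGr 𝒜 := by
  classical
  by_contra hj
  have hje : d j = e := by
    have h' := congrFun ha j
    rw [GMod.pi_cp] at h'
    split_ifs at h' with hle
    · rw [GMod.ofDecomposition_cp] at h'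
      by_contra hne
      exact hj (mem_maxGr_of_mem (e := e - d j) (by omega) (h' ▸ SetLike.coe_mem _))
    · exact absurd (h' ▸ Submodule.zero_mem _) hj
  have hu : IsUnit (a j) := by
    have h' := congrFun ha j
    rw [GMod.pi_cp, if_pos hje.le, GMod.ofDecomposition_cp, hje, Nat.sub_self] at h'
    exact isUnit_of_notMem_maxGr (h' ▸ SetLike.coe_mem _) hj
  cases b with
  | zero => exact j.elim0
  | succ b =>
    refine hmin b (Nat.lt_succ_self b) (d ∘ j.succAbove) (v ∘ j.succAbove) (fun k => hv _)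
      (le_antisymm (Submodule.span_mono (Set.range_comp_subset_range _ _)) (Submodule.span_le.2 ?_))
    rintro _ ⟨k, rfl⟩
    rcases Fin.eq_self_or_eq_succAbove j k with rfl | ⟨i, rfl⟩
    · rw [Fintype.linearCombination_apply, Fin.sum_univ_succAbove _ k] at h
      have hkey : a k • v k ∈ Submodule.span A (Set.range (v ∘ k.succAbove)) := by
        rw [eq_neg_of_add_eq_zero_left h]
        exact neg_mem (Submodule.sum_mem _ fun i _ =>
          Submodule.smul_mem _ _ (Submodule.subset_span ⟨i, rfl⟩))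
      exact (Submodule.smul_mem_iff_of_isUnit _ hu).1 hkey
    · exact Submodule.subset_span ⟨i, rfl⟩

theorem exists_minimal_gens {K : Submodule A X} (hK : G.Hom K) (hfg : K.FG) :
    ∃ (b : ℕ) (d : Fin b → ℕ) (v : Fin b → X),
      (∀ k, G.cp (d k) (v k) = v k) ∧ Submodule.span A (Set.range v) = K ∧
      ∀ (a : Fin b → A), Fintype.linearCombination A v a = 0 → ∀ j, a j ∈ maxGr 𝒜 := by
  classical
  have hex := G.exists_gens hK hfg
  obtain ⟨d, v, hv, hs⟩ := Nat.find_spec hex
  refine ⟨Nat.find hex, d, v, hv, hs, fun a ha j => ?_⟩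
  have hcomm : (free 𝒜 d).Comm G (Fintype.linearCombination A v) := by
    intro g x
    rw [Fintype.linearCombination_apply, Fintype.linearCombination_apply, map_sum]
    refine Finset.sum_congr rfl fun k _ => ?_
    rw [G.cp_smul_homog (hv k), GMod.pi_cp, ite_smul, zero_smul]
    rfl
  obtain ⟨n, hn⟩ := (free 𝒜 d).eq_sum_cp a
  rw [hn, Finset.sum_apply]
  refine Submodule.sum_mem _ fun g _ => ?_
  refine mem_maxGr_of_minimal G hv (fun b' hb' d' v' hv' he => Nat.find_min hex hb'
    ⟨d', v', hv', he.trans hs⟩) ((free 𝒜 d).cp_eq_self_of_cp a) ?_ j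
  rw [← hcomm, ha, map_zero]

theorem eq_zero_of_smul_eq_zero {a : A} (ha : a - 1 ∈ maxGr 𝒜) {x : X} (h : ∀ g, a • G.cp g x = 0) :
    x = 0 := by
  refine G.ext_cp x fun g => ?_
  have h0 : a - 1 ∈ maxGr 𝒜 := ha
  rw [mem_maxGr_iff, map_sub, map_one] at h0
  have hu : IsUnit (GradedRing.projZeroRingHom' 𝒜 a) := by
    by_contra hn
    have h1 : (1 : 𝒜 0) ∈ IsLocalRing.maximalIdeal (𝒜 0) := by
      have := Ideal.sub_mem _ (show GradedRing.projZeroRingHom' 𝒜 a ∈ IsLocalRing.maximalIdeal (𝒜 0) from hn)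
        (show GradedRing.projZeroRingHom' 𝒜 a - 1 ∈ IsLocalRing.maximalIdeal (𝒜 0) from h0)
      rwa [sub_sub_cancel] at this
    exact h1 isUnit_one
  have h2 : (decompose 𝒜 a 0 : A) • G.cp g x = 0 := by
    have := congrArg (G.cp g) (h g)
    rwa [G.cp_smul_homog (G.cp_eq_self_of_cp x), if_pos le_rfl, Nat.sub_self, map_zero] at this
  exact (hu.map (algebraMap (𝒜 0) A)).smul_eq_zero.1 h2

end local_

section existence

variable [IsLocalRing (𝒜 0)] [IsNoetherianRing A]

theorem projective_dimension_free (b n : ℕ) :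
    HasProjectiveDimensionLT (ModuleCat.of A (Fin b → A)) (n + 1) := by
  haveI : Projective (ModuleCat.of A (Fin b → A)) :=
    (IsProjective.iff_projective (Fin b → A)).1 inferInstance
  exact hasProjectiveDimensionLT_of_ge _ 1 (n + 1) (by omega)

theorem hasRes_of_projective {b : ℕ} {d : Fin b → ℕ} {K : Submodule A (Fin b → A)}
    (hK : (free 𝒜 d).Hom K) [Module.Projective A K] : HasRes 𝒜 b d K := by
  classical
  obtain ⟨b', d', v, hv, hs, hmin⟩ := exists_minimal_gens (free 𝒜 d) hK (IsNoetherian.noetherian K)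
  have hrange : LinearMap.range (mv (fun j k => v k j) A) = K := by
    rw [mv_eq_linearCombination, Fintype.range_linearCombination, hs]
  let f := mv (fun j k => v k j) A
  have hD : IsHom 𝒜 d d' (fun j k => v k j) := isHom_of_cp hv
  suffices hker : LinearMap.ker f = ⊥ by
    have := HasRes.step b d b' d' _ hD (hker ▸ HasRes.zero b' d')
    rwa [hrange] at this
  haveI : Module.Projective A (LinearMap.range f) := Module.Projective.of_equiv (LinearEquiv.ofEq _ _ hrange).symm
  obtain ⟨s, hsec⟩ := Module.projective_lifting_property f.rangeRestrict LinearMap.id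
    f.surjective_rangeRestrict
  let r : (Fin b' → A) →ₗ[A] (Fin b' → A) := LinearMap.id - s ∘ₗ f.rangeRestrict
  have hr : LinearMap.range r ≤ LinearMap.ker f := by
    rintro _ ⟨x, rfl⟩
    have := LinearMap.congr_fun hsec (f.rangeRestrict x)
    have h2 : f (s (f.rangeRestrict x)) = f x := congrArg Subtype.val this
    show f (x - s (f.rangeRestrict x)) = 0
    rw [map_sub, h2, sub_self]
  have hle : LinearMap.ker f ≤ maxGr 𝒜 • LinearMap.ker f := by
    intro x hx
    have hxm : x ∈ maxGr 𝒜 • (⊤ : Submodule A (Fin b' → A)) := by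
      rw [pi_eq_sum_univ' x]
      refine Submodule.sum_mem _ fun j _ => Submodule.smul_mem_smul (hmin x ?_ j) trivial
      rw [← mv_eq_linearCombination]
      exact hx
    have hrx : r x = x := by
      show x - s (f.rangeRestrict x) = x
      rw [show f.rangeRestrict x = 0 from Subtype.ext hx, map_zero, sub_zero]
    have hmem := Submodule.mem_map_of_mem (f := r) hxm
    rw [hrx, Submodule.map_smul'', Submodule.map_top] at hmem
    exact smul_mono_right _ hr hmem
  obtain ⟨a, ha, hann⟩ := Submodule.exists_sub_one_mem_and_smul_eq_zero_of_fg_of_le_smul _ _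
    (IsNoetherian.noetherian _) hle
  rw [eq_bot_iff]
  intro x hx
  exact (Submodule.mem_bot A).2 (eq_zero_of_smul_eq_zero (free 𝒜 d') ha fun g =>
    hann _ ((hD.comm (ringGMod 𝒜)).hom_ker g x hx))

theorem hasRes_of_pdLT (n : ℕ) : ∀ {b : ℕ} {d : Fin b → ℕ} {K : Submodule A (Fin b → A)},
    (free 𝒜 d).Hom K → HasProjectiveDimensionLT (ModuleCat.of A K) (n + 1) → HasRes 𝒜 b d K := by
  induction n with
  | zero =>
    intro b d K hK hpd
    haveI : Projective (ModuleCat.of A K) := (projective_iff_hasProjectiveDimensionLT_one).2 hpd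
    haveI : Module.Projective A K := (IsProjective.iff_projective (K : Type u)).2 inferInstance
    exact hasRes_of_projective hK
  | succ n ih =>
    intro b d K hK hpd
    obtain ⟨b', d', v, hv, hs⟩ := (free 𝒜 d).exists_gens hK (IsNoetherian.noetherian K)
    have hD : IsHom 𝒜 d d' (fun j k => v k j) := isHom_of_cp hv
    let f := mv (fun j k => v k j) A
    have hrange : LinearMap.range f = K := by
      rw [show f = _ from mv_eq_linearCombination v, Fintype.range_linearCombination, hs]
    subst hrange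
    let S : ShortComplex (ModuleCat.{u} A) := ShortComplex.mk
      (ModuleCat.ofHom (LinearMap.ker f).subtype) (ModuleCat.ofHom f.rangeRestrict)
      (ModuleCat.hom_ext (LinearMap.ext fun x => Subtype.ext x.2))
    have hS : S.ShortExact :=
      { exact := (ShortComplex.ShortExact.moduleCat_exact_iff_function_exact _).2
          (fun y => ⟨fun h => ⟨⟨y, congrArg Subtype.val h⟩, rfl⟩, by
            rintro ⟨z, rfl⟩; exact Subtype.ext z.2⟩)
        mono_f := (ModuleCat.mono_iff_injective _).2 Subtype.val_injective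
        epi_g := (ModuleCat.epi_iff_surjective _).2 f.surjective_rangeRestrict }
    exact HasRes.step b d b' d' _ hD (ih (hD.comm (ringGMod 𝒜)).hom_ker
      (hS.hasProjectiveDimensionLT_X₁ (n + 1) (projective_dimension_free b' n) hpd))

theorem exists_presentation {M : Type u} [AddCommGroup M] [Module A M] [Module.Finite A M]
    (G : GMod 𝒜 M) (hpd : ∃ n : ℕ, HasProjectiveDimensionLT (ModuleCat.of A M) n) :
    ∃ (b : ℕ) (d : Fin b → ℕ) (π : (Fin b → A) →ₗ[A] M), Function.Surjective π ∧
      (free 𝒜 d).Comm G π ∧ HasRes 𝒜 b d (LinearMap.ker π) := by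
  classical
  obtain ⟨n, hn⟩ := hpd
  haveI := hn
  obtain ⟨b, d, v, hv, hs⟩ := G.exists_gens G.hom_top Module.Finite.fg_top
  let π := Fintype.linearCombination A v
  have hπ : Function.Surjective π := LinearMap.range_eq_top.1 (by rw [Fintype.range_linearCombination, hs])
  have hcomm : (free 𝒜 d).Comm G π := by
    intro g x
    rw [Fintype.linearCombination_apply, Fintype.linearCombination_apply, map_sum]
    refine Finset.sum_congr rfl fun k _ => ?_
    rw [G.cp_smul_homog (hv k), GMod.pi_cp, ite_smul, zero_smul]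
    rfl
  let S : ShortComplex (ModuleCat.{u} A) := ShortComplex.mk
    (ModuleCat.ofHom (LinearMap.ker π).subtype) (ModuleCat.ofHom π)
    (ModuleCat.hom_ext (LinearMap.ext fun x => x.2))
  have hS : S.ShortExact :=
    { exact := (ShortComplex.ShortExact.moduleCat_exact_iff_function_exact _).2
        (LinearMap.exact_subtype_ker_map π)
      mono_f := (ModuleCat.mono_iff_injective _).2 Subtype.val_injective
      epi_g := (ModuleCat.epi_iff_surjective _).2 hπ }
  exact ⟨b, d, π, hπ, hcomm, hasRes_of_pdLT n hcomm.hom_ker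
    (hS.hasProjectiveDimensionLT_X₁ (n + 1) (projective_dimension_free b n)
      (hasProjectiveDimensionLT_of_ge _ n (n + 2) (by omega)))⟩

end existence

end Groth.GrInt
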